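import Mathlib
import Cfsg.Agent.H26.Omega
import Cfsg.Agent.H03.PResidual
import Cfsg.Agent.H02.PPrimeCore

/-!
# Burnside's transfer theorem in ambient form

`IsSyl.not_dvd_pResidualOf` (`K ⊓ N(T) ≤ C(T)` ⇒ `O^p(K)` is a `p'`-group), `IsSyl.not_dvd_pResidualOf_of_central`,
`inf_centralizer_ne_bot_of_pow` (a group inducing a `p`-group on a `p`-group has fixed points),
`pResidualOf_le_pPrimeCoreOf`.
-/

namespace H26
open Cfsg

variable {G : Type*} [Group G] {p : ℕ} [hp : Fact p.Prime]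

theorem IsSyl.not_dvd_pResidualOf {T K : Subgroup G} [Finite K] (hT : IsSyl p T K)
    (h : K ⊓ Subgroup.normalizer (T : Set G) ≤ Subgroup.centralizer (T : Set G)) :
    ¬ p ∣ Nat.card (pResidualOf p K) := by
  obtain ⟨S, hS, -⟩ := hT.exists_sylow
  rw [pResidualOf, card_map_subtype, ← H03.hasNPC_iff_not_dvd_card_pResidual]
  refine H03.hasNPC_of_normalizer_le_centralizer S fun x hx y hy => ?_
  have h1 : ∀ z : K, z ∈ (S : Subgroup K) ↔ (z : G) ∈ T := fun z => by rw [hS]; rfl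
  refine Subtype.ext (h ⟨x.2, Subgroup.mem_normalizer_iff.mpr fun z => ⟨fun a => ?_, fun a => ?_⟩⟩ y ((h1 y).mp hy))
  · exact (h1 _).mp ((Subgroup.mem_normalizer_iff.mp hx ⟨z, hT.le a⟩).mp ((h1 _).mpr a))
  · have h2 : z ∈ K := by simpa [mul_assoc] using mul_mem (mul_mem (inv_mem x.2) (hT.le a)) x.2
    exact (h1 _).mp ((Subgroup.mem_normalizer_iff.mp hx ⟨z, h2⟩).mpr ((h1 _).mpr a))

theorem IsSyl.not_dvd_pResidualOf_of_central {T K : Subgroup G} [Finite K] (hT : IsSyl p T K)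
    (h : K ≤ Subgroup.centralizer (T : Set G)) : ¬ p ∣ Nat.card (pResidualOf p K) :=
  hT.not_dvd_pResidualOf (inf_le_left.trans h)

theorem pResidualOf_le_pPrimeCoreOf {K H : Subgroup G} (h : ¬ p ∣ Nat.card (pResidualOf p K)) (h1 : K ≤ H)
    (h2 : H ≤ Subgroup.normalizer (K : Set G)) : pResidualOf p K ≤ H02.pPrimeCoreOf p H :=
  H02.le_pPrimeCoreOf ((pResidualOf_le K).trans h1) (h2.trans (normalizer_le_normalizer_pResidualOf K))
    (hp.out.coprime_iff_not_dvd.mpr h).symm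

theorem inf_centralizer_ne_bot_of_pow {E K : Subgroup G} [Finite E] [Finite K] (hE : IsPGroup p E) (h1 : E ≠ ⊥)
    (hn : K ≤ Subgroup.normalizer (E : Set G))
    (h : ∀ g ∈ K, ∃ n, g ^ p ^ n ∈ Subgroup.centralizer (E : Set G)) :
    E ⊓ Subgroup.centralizer (K : Set G) ≠ ⊥ := by
  obtain ⟨T, hT⟩ := exists_isSyl p K
  rw [← hT.sup_pResidualOf, centralizer_sup, inf_comm (Subgroup.centralizer _), ← inf_assoc,
    inf_eq_left.mpr (Subgroup.le_centralizer_iff.mp (pResidualOf_le_of_pow h))]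
  exact inf_centralizer_ne_bot hT.pg hE h1 (hT.le.trans hn)

end H26
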