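import Mathlib
import Cfsg.Agent.H12.Quad5

/-!
Quadratic modules with a coprime operator group, I: finite special Jordan division rings have two square roots
(`jordan_sq`), normalised partners of a minimal element are conjugate (`partner_conj`), at most two orbits (`two_orbits`).
-/

set_option autoImplicit false
set_option linter.unusedSectionVars false

namespace Cfsg.Agent.H26.Cq

open Cfsg Polynomial H12 H12.Q
open scoped MatrixGroups commutatorElement

theorem jordan_sq {R : Type*} [Ring R] [Finite R] (J : AddSubgroup R) (h1 : (1 : R) ∈ J)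
    (hsq : ∀ x ∈ J, x * x ∈ J) (h2 : ∀ x : R, x + x = 0 → x = 0)
    (hd : ∀ x ∈ J, ∀ y ∈ J, x * y = 0 → x = 0 ∨ y = 0) {c d : R} (hc : c ∈ J) (hdd : d ∈ J)
    (h : c * c = d * d) : c = d ∨ c = -d := by
  classical
  have half : ∀ x : R, x + x ∈ J → x ∈ J := by
    intro x hx
    have hi : Function.Injective (fun y : J => y + y) := fun y z e => Subtype.ext (sub_eq_zero.1 (h2 _ (by
      have := congrArg Subtype.val e
      simp only [AddSubgroup.coe_add] at this
      rw [sub_add_sub_comm, this, sub_self])))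
    obtain ⟨y, hy⟩ := Finite.injective_iff_surjective.1 hi ⟨_, hx⟩
    have := congrArg Subtype.val hy
    simp only [AddSubgroup.coe_add] at this
    rw [show x = y from sub_eq_zero.1 (h2 _ (by rw [sub_add_sub_comm, this, sub_self]))]
    exact y.2
  have cm : ∀ x ∈ J, ∀ y ∈ J, Commute x y → x * y ∈ J := by
    intro x hx y hy e
    apply half
    have : x * y + x * y = (x + y) * (x + y) - x * x - y * y := by
      rw [add_mul, mul_add, mul_add, ← e.eq]; abel
    rw [this]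
    exact sub_mem (sub_mem (hsq _ (add_mem hx hy)) (hsq _ hx)) (hsq _ hy)
  by_contra hne
  push Not at hne
  set u := c - d with hu
  set v := c + d with hv
  have hu0 : u ≠ 0 := sub_ne_zero.2 hne.1
  have hv0 : v ≠ 0 := fun e => hne.2 (eq_neg_of_add_eq_zero_left e)
  have huJ : u ∈ J := sub_mem hc hdd
  have hvJ : v ∈ J := add_mem hc hdd
  have huv : v * u = -(u * v) := by
    rw [hu, hv, eq_neg_iff_add_eq_zero]
    have : (c + d) * (c - d) + (c - d) * (c + d) = (c * c - d * d) + (c * c - d * d) := by noncomm_ring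
    rw [this, h, sub_self, add_zero]
  clear_value u v
  let Z : Subring R :=
    { carrier := {z | z ∈ J ∧ Commute z u ∧ Commute z v ∧ ∀ x ∈ J, Commute x u → Commute x v → Commute z x}
      mul_mem' := fun {a b} ha hb => ⟨cm a ha.1 b hb.1 (ha.2.2.2 b hb.1 hb.2.1 hb.2.2.1), ha.2.1.mul_left hb.2.1,
        ha.2.2.1.mul_left hb.2.2.1, fun x hx e1 e2 => (ha.2.2.2 x hx e1 e2).mul_left (hb.2.2.2 x hx e1 e2)⟩
      one_mem' := ⟨h1, Commute.one_left _, Commute.one_left _, fun x _ _ _ => Commute.one_left _⟩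
      add_mem' := fun {a b} ha hb => ⟨add_mem ha.1 hb.1, ha.2.1.add_left hb.2.1,
        ha.2.2.1.add_left hb.2.2.1, fun x hx e1 e2 => (ha.2.2.2 x hx e1 e2).add_left (hb.2.2.2 x hx e1 e2)⟩
      zero_mem' := ⟨zero_mem _, Commute.zero_left _, Commute.zero_left _, fun x _ _ _ => Commute.zero_left _⟩
      neg_mem' := fun {a} ha => ⟨neg_mem ha.1, ha.2.1.neg_left, ha.2.2.1.neg_left,
        fun x hx e1 e2 => (ha.2.2.2 x hx e1 e2).neg_left⟩ }
  have ht : u * u ∈ Z := ⟨hsq u huJ, (Commute.refl u).mul_left (Commute.refl u), by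
    change u * u * v = v * (u * u)
    rw [← mul_assoc, huv, neg_mul, mul_assoc u v u, huv, mul_neg, neg_neg, mul_assoc],
    fun x _ e1 _ => e1.symm.mul_left e1.symm⟩
  have hs : v * v ∈ Z := ⟨hsq v hvJ, by
    change v * v * u = u * (v * v)
    rw [mul_assoc, huv, mul_neg, ← mul_assoc, huv, neg_mul, neg_neg, mul_assoc],
    (Commute.refl v).mul_left (Commute.refl v), fun x _ _ e2 => e2.symm.mul_left e2.symm⟩
  let : CommRing Z := { (inferInstance : Ring Z) with
    mul_comm := fun a b => Subtype.ext (a.2.2.2.2 b b.2.1 b.2.2.1 b.2.2.2.1).eq }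
  have h10 : (1 : R) ≠ 0 := fun e => hu0 (by rw [← mul_one u, e, mul_zero])
  have : Nontrivial Z := ⟨⟨1, 0, fun e => h10 (congrArg Subtype.val e)⟩⟩
  have : NoZeroDivisors Z := ⟨fun {a b} e => (hd a a.2.1 b b.2.1 (congrArg Subtype.val e)).imp
    Subtype.ext Subtype.ext⟩
  have : IsDomain Z := NoZeroDivisors.to_isDomain Z
  let := Fintype.ofFinite Z
  have hodd : Fintype.card Z % 2 = 1 := by
    by_contra hh
    have : Fact (Nat.Prime 2) := ⟨Nat.prime_two⟩
    obtain ⟨x, hx⟩ := exists_prime_addOrderOf_dvd_card (G := Z) 2 (by omega)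
    have e := addOrderOf_nsmul_eq_zero x
    rw [hx, two_nsmul] at e
    have : x = 0 := Subtype.ext (h2 _ (congrArg Subtype.val e))
    rw [this, addOrderOf_zero] at hx
    omega
  have ht0 : (⟨_, ht⟩ : Z) ≠ 0 := fun e => (hd u huJ u huJ (congrArg Subtype.val e)).elim hu0 hu0
  have hs0 : (⟨_, hs⟩ : Z) ≠ 0 := fun e => (hd v hvJ v hvJ (congrArg Subtype.val e)).elim hv0 hv0
  obtain ⟨a, b, hab⟩ := FiniteField.exists_root_sum_quadratic (R := Z) (f := C ⟨_, ht⟩ * X ^ 2)
    (g := C ⟨_, hs⟩ * X ^ 2 - C 1) (degree_C_mul_X_pow 2 ht0)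
    (by rw [degree_sub_C (by rw [degree_C_mul_X_pow 2 hs0]; decide), degree_C_mul_X_pow 2 hs0]; rfl) hodd
  have hab' : u * u * (a.1 * a.1) + (v * v * (b.1 * b.1) - 1) = 0 := by
    have := congrArg Subtype.val hab
    simpa [sq] using this
  obtain ⟨haJ, hau, hav, -⟩ := a.2
  obtain ⟨hbJ, hbu, hbv, -⟩ := b.2
  have hab2 : Commute a.1 b.1 := a.2.2.2.2 b hbJ hbu hbv
  have h3 := cm _ haJ _ huJ hau
  have h4 := cm _ hbJ _ hvJ hbv
  set y := a.1 * u + b.1 * v with hy
  have hyJ : y ∈ J := add_mem h3 h4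
  have hyy : (y - 1) * (y + 1) = 0 := by
    have e1 : a.1 * u * (a.1 * u) = u * u * (a.1 * a.1) := by
      rw [hau.eq, mul_assoc, ← mul_assoc a.1, hau.eq]; simp only [mul_assoc]
    have e2 : b.1 * v * (b.1 * v) = v * v * (b.1 * b.1) := by
      rw [hbv.eq, mul_assoc, ← mul_assoc b.1, hbv.eq]; simp only [mul_assoc]
    have e3 : a.1 * u * (b.1 * v) = a.1 * b.1 * (u * v) := by
      rw [mul_assoc, ← mul_assoc u, ← hbu.eq]; simp only [mul_assoc]
    have e4 : b.1 * v * (a.1 * u) = -(a.1 * b.1 * (u * v)) := by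
      rw [mul_assoc, ← mul_assoc v, ← hav.eq, mul_assoc, huv, ← mul_assoc, ← hab2.eq, mul_neg]
    have : (y - 1) * (y + 1) = y * y - 1 := by noncomm_ring
    rw [this, hy, add_mul, mul_add, mul_add, e1, e2, e3, e4, ← hab']; abel
  have hcm : Commute y u ∧ Commute y v ∧ y ≠ 0 := by
    rcases hd _ (sub_mem hyJ h1) _ (add_mem hyJ h1) hyy with e | e
    · rw [sub_eq_zero.1 e]; exact ⟨Commute.one_left _, Commute.one_left _, h10⟩
    · rw [eq_neg_of_add_eq_zero_left e]
      exact ⟨(Commute.one_left _).neg_left, (Commute.one_left _).neg_left, neg_ne_zero.2 h10⟩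
  have hb0 : b.1 * v = 0 := by
    refine (hd _ h4 _ huJ (h2 _ ?_)).resolve_right hu0
    have e := hcm.1.eq
    rw [hy, add_mul, mul_add, ← mul_assoc u, ← hau.eq, add_right_inj, ← mul_assoc u, ← hbu.eq] at e
    nth_rewrite 1 [e]
    rw [mul_assoc, mul_assoc, huv, mul_neg, add_neg_cancel]
  have ha0 : a.1 * u = 0 := by
    refine (hd _ h3 _ hvJ (h2 _ ?_)).resolve_right hv0
    have e := hcm.2.1.eq
    rw [hy, add_mul, mul_add, ← mul_assoc v b.1, ← hbv.eq, add_left_inj, ← mul_assoc v, ← hav.eq] at e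
    nth_rewrite 1 [e]
    rw [mul_assoc, mul_assoc, huv, mul_neg, neg_add_cancel]
  exact hcm.2.2 (by rw [hy, ha0, hb0, add_zero])

section alg
variable {k A : Type*} [Field k] [Ring A] [Algebra k A] {α β β' ν : A} {a b : k}

theorem alg_cent (ha : a ≠ 0) (hb : b ≠ 0) (hab : a ≠ b) (n1 : α * β * α = α) (h1 : α * ν = 0) (h2 : ν * α = 0)
    (h3 : (1 - α * β) * ν * (1 - β * α) = 0)
    (h : ν * (1 + a • (α * β) + b • (β * α)) = (1 + a • (α * β) + b • (β * α)) * ν) : ν = 0 := by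
  have e0 : b • (ν * (β * α)) = a • (α * β * ν) := by
    rw [mul_add, mul_add, add_mul, add_mul, mul_smul_comm, mul_smul_comm, smul_mul_assoc, smul_mul_assoc,
      ← mul_assoc ν α, h2, mul_assoc β α, h1] at h
    simpa using h
  have ee : α * β * (α * β) = α * β := by rw [← mul_assoc, n1]
  have ff : β * α * (β * α) = β * α := by rw [mul_assoc, ← mul_assoc α, n1]
  have e1 : b • (α * β * ν * (β * α)) = a • (α * β * ν) := by
    have := congrArg (fun x => α * β * x) e0
    simp only [mul_smul_comm] at this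
    rwa [← mul_assoc (α * β) (α * β), ee, ← mul_assoc] at this
  have e2 : b • (ν * (β * α)) = a • (α * β * ν * (β * α)) := by
    have := congrArg (fun x => x * (β * α)) e0
    simp only [smul_mul_assoc] at this
    rwa [mul_assoc ν, ff] at this
  have e3 : α * β * ν * (β * α) = 0 := by
    have : (a - b) • (α * β * ν * (β * α)) = 0 := by rw [sub_smul, ← e2, e1, e0, sub_self]
    exact (smul_eq_zero.1 this).resolve_left (sub_ne_zero.2 hab)
  rw [e3, smul_zero] at e1 e2
  have e4 := (smul_eq_zero.1 e1.symm).resolve_left ha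
  have e5 := (smul_eq_zero.1 e2).resolve_left hb
  have : (1 - α * β) * ν * (1 - β * α) = ν - α * β * ν - ν * (β * α) + α * β * ν * (β * α) := by noncomm_ring
  rw [this, e3, e4, e5] at h3
  simpa using h3

theorem alg_det (ha : a ≠ 0) (hb : b ≠ 0) (hab : a ≠ b) (hβ : β * β = 0) (hβ' : β' * β' = 0)
    (n1 : α * β * α = α) (n2 : β * α * β = β) (m1 : α * β' * α = α) (m2 : β' * α * β' = β')
    (h : 1 + a • (α * β) + b • (β * α) = 1 + a • (α * β') + b • (β' * α)) : β = β' := by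
  have e0 : a • (α * β - α * β') + b • (β * α - β' * α) = 0 := by
    rw [smul_sub, smul_sub, ← sub_eq_zero.2 h]; abel
  have e1 : a • (α * β - α * β') = b • (α * β * (β' * α)) := by
    have := congrArg (fun x => α * β * x) e0
    simp only [mul_add, mul_smul_comm, mul_sub, mul_zero] at this
    rw [← mul_assoc (α * β) α, ← mul_assoc (α * β) α, n1, ← mul_assoc (α * β) β, mul_assoc α β β, hβ] at this
    simpa [add_neg_eq_zero] using this
  have e2 : a • (α * β * (β' * α)) + b • (β * α - β' * α) = 0 := by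
    have := congrArg (fun x => x * (β' * α)) e0
    simp only [add_mul, smul_mul_assoc, sub_mul, zero_mul] at this
    rw [mul_assoc β α, mul_assoc β' α, ← mul_assoc α β' α, m1, mul_assoc α β', ← mul_assoc β' β', hβ'] at this
    simpa using this
  have e3 : α * β * (β' * α) = α * β - α * β' :=
    smul_right_injective _ ha (add_right_cancel (e2.trans e0.symm))
  rw [e3, ← sub_eq_zero, ← sub_smul] at e1
  have e4 := (smul_eq_zero.1 e1).resolve_left (sub_ne_zero.2 hab)
  rw [e4, smul_zero, zero_add] at e0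
  have e5 := (smul_eq_zero.1 e0).resolve_left hb
  rw [← n2, sub_eq_zero.1 e5, mul_assoc, sub_eq_zero.1 e4, ← mul_assoc, m2]

end alg

variable {k : Type*} [Field k] {M : Type*} [AddCommGroup M] [Module k M]
variable {G : Subgroup (GLM k M)} {α β γ δ ε ν x : Module.End k M}

theorem flag_mul {c d : k} (h : ν ∈ flagJ (LinearMap.ker α) (LinearMap.range α)) (h1 : α * x = c • α)
    (h2 : x * α = d • α) : ν * x ∈ flagJ (LinearMap.ker α) (LinearMap.range α) ∧
      x * ν ∈ flagJ (LinearMap.ker α) (LinearMap.range α) := by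
  have a1 : ∀ v, α (x v) = c • α v := fun v => LinearMap.congr_fun h1 v
  have a2 : ∀ v, x (α v) = d • α v := fun v => LinearMap.congr_fun h2 v
  refine ⟨⟨fun v => h.1 _, fun v hv => h.2.1 _ ?_, ?_⟩, fun v => ?_, fun v hv => ?_, fun v hv => ?_⟩
  · rw [LinearMap.mem_ker, a1, LinearMap.mem_ker.1 hv, smul_zero]
  · rintro _ ⟨v, rfl⟩
    rw [Module.End.mul_apply, a2, map_smul, h.2.2 _ ⟨v, rfl⟩, smul_zero]
  · rw [LinearMap.mem_ker, Module.End.mul_apply, a1, LinearMap.mem_ker.1 (h.1 v), smul_zero]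
  · obtain ⟨w, hw⟩ := h.2.1 v hv
    rw [Module.End.mul_apply, ← hw, a2]
    exact Submodule.smul_mem _ _ ⟨w, rfl⟩
  · rw [Module.End.mul_apply, h.2.2 v hv, map_zero]

theorem flag_eqs (n1 : α * β * α = α) (h : ν ∈ flagJ (LinearMap.ker α) (LinearMap.range α)) :
    α * ν = 0 ∧ ν * α = 0 ∧ (1 - α * β) * ν * (1 - β * α) = 0 := by
  refine ⟨LinearMap.ext h.1, LinearMap.ext fun v => h.2.2 _ ⟨v, rfl⟩, LinearMap.ext fun v => ?_⟩
  have e1 : α * (1 - β * α) = 0 := by rw [mul_sub, ← mul_assoc, n1, mul_one, sub_self]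
  have e2 : (1 - α * β) * α = 0 := by rw [sub_mul, n1, one_mul, sub_self]
  obtain ⟨w, hw⟩ := h.2.1 ((1 - β * α) v) (LinearMap.congr_fun e1 v)
  rw [Module.End.mul_apply, Module.End.mul_apply, ← hw]
  exact LinearMap.congr_fun e2 w

/-- normalised pairs -/
structure NP (G : Subgroup (GLM k M)) (α β : Module.End k M) : Prop where
  ma : MinEl G α
  mb : MinEl G β
  n1 : α * β * α = α
  n2 : β * α * β = β

theorem NP.symm (h : NP G α β) : NP G β α := ⟨h.mb, h.ma, h.n2, h.n1⟩

/-- the homomorphism of a normalised pair -/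
def NP.sl (h : NP G α β) : SL(2, k) →* GLM k M := slHom h.ma.inL.1 h.mb.inL.1 h.n1 h.n2

theorem NP.sl_val (h : NP G α β) (g : SL(2, k)) : (h.sl g : Module.End k M) =
    1 - α * β - β * α + g.1 0 0 • (α * β) + g.1 0 1 • α + g.1 1 0 • β + g.1 1 1 • (β * α) := rfl

theorem NP.sl_comm (h : NP G α β) (h1 : x * α = α * x) (h2 : x * β = β * x) (g : SL(2, k)) :
    x * (h.sl g : Module.End k M) = h.sl g * x := by
  have c1 : Commute x α := h1
  have c2 : Commute x β := h2
  rw [h.sl_val]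
  exact (((((((Commute.one_right x).sub_right (c1.mul_right c2)).sub_right (c2.mul_right c1)).add_right
    ((c1.mul_right c2).smul_right _)).add_right (c1.smul_right _)).add_right (c2.smul_right _)).add_right
    ((c2.mul_right c1).smul_right _)).eq

variable [FiniteDimensional k M]

theorem NP.conj (h : NP G α β) {g : GLM k M} (hg : g ∈ G) :
    NP G ((g : Module.End k M) * α * (g⁻¹ : GLM k M)) ((g : Module.End k M) * β * (g⁻¹ : GLM k M)) :=
  ⟨h.ma.conj hg, h.mb.conj hg, by conv_rhs => rw [← h.n1]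
                                  simp [mul_assoc], by conv_rhs => rw [← h.n2]
                                                       simp [mul_assoc]⟩

theorem NP.sl_mem (h : NP G α β) (g : SL(2, k)) : h.sl g ∈ G0 G := by
  have : (G0 G).comap h.sl = ⊤ := sl2_induction
    (fun t => Esub_le_G0 h.ma ((mem_Esub h.ma.inL.1).2 (by
      rw [NP.sl, slHom_up]; exact (InE.refl h.ma.inL).smul t)))
    (fun t => Esub_le_G0 h.mb ((mem_Esub h.mb.inL.1).2 (by
      rw [NP.sl, slHom_lo]; exact (InE.refl h.mb.inL).smul t)))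
  exact this.ge (Subgroup.mem_top g)

theorem NP.w_conj (h : NP G α β) (hε : InE G β ε) : Cj G ε (-(α * ε * α)) := by
  let w : SL(2, k) := ⟨!![0, 1; -1, 0], by simp [Matrix.det_fin_two]⟩
  have e1 : β * ε = 0 := hε.left h.mb.inL.1
  have e2 : ε * β = 0 := hε.right h.mb.inL.1
  have e3 : (1 - β * α) * ε = 0 := hε.left (by rw [sub_mul, h.n2, one_mul, sub_self])
  have e4 : ε * (1 - α * β) = 0 := hε.right (by rw [mul_sub, ← mul_assoc, h.n2, mul_one, sub_self])
  refine ⟨h.sl w, h.sl_mem w, ?_⟩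
  have a1 : (h.sl w : Module.End k M) * ε = α * ε := by
    have : (h.sl w : Module.End k M) = (1 - β * α) + α - β - α * β := by rw [h.sl_val]; simp [w]; abel
    rw [this, sub_mul, sub_mul, add_mul, e3, e1, mul_assoc, e1]; simp
  have a2 : ε * ((h.sl w)⁻¹ : GLM k M) = -(ε * α) := by
    have : (((h.sl w)⁻¹ : GLM k M) : Module.End k M) = (1 - α * β) - α + β - β * α := by
      rw [← map_inv, h.sl_val, Matrix.SpecialLinearGroup.SL2_inv_expl]; simp [w]; abel
    rw [this, mul_sub, mul_add, mul_sub, e4, e2, ← mul_assoc, e2]; simp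
  rw [a1, mul_assoc α ε (_ : GLM k M).1, a2, mul_neg, mul_assoc]

theorem NP.cj_neg (h : NP G α β) : Cj G α (-β) := by
  have := h.symm.w_conj (InE.refl h.ma.inL)
  rwa [h.n2] at this

variable (hk2 : ringChar k ≠ 2) (hk3 : Nat.card k ≠ 3)
include hk2 hk3

theorem exists_np (hU : NoU G) (hα : MinEl G α) : ∃ β, NP G α β := by
  obtain ⟨β, h1, h2⟩ := exists_opp hk2 hk3 hU hα
  obtain ⟨β', -, i2, i3, i4⟩ := (exists_norm hk2 hk3 hα h1.inL h2).1
  exact ⟨β', hα, i2, i3, i4⟩

theorem NP.opp (h : NP G α β) (hγ : InE G α γ) (h0 : γ ≠ 0) : γ * β * γ ≠ 0 :=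
  opp_indep hk2 hk3 h.ma h.mb (by rw [h.n1]; exact h.ma.ne) hγ (InE.refl h.mb.inL) h0 h.mb.ne

theorem NP.cj_sq (h : NP G α β) (hγ : InE G α γ) (h0 : γ ≠ 0) : Cj G α (γ * β * γ) := by
  have hm := (hγ.symm h.ma h0).1
  obtain ⟨δ, i1, i2, i3, i4⟩ := (exists_norm hk2 hk3 hm h.mb.inL (h.opp hk2 hk3 hγ h0)).1
  have := (NP.mk hm i2 i3 i4).w_conj (i1.symm h.mb i2.ne).2.neg
  rw [mul_neg, neg_mul, neg_neg] at this
  exact h.cj_neg.trans this

theorem NP.partner_conj [Finite k] (h : NP G α β) (h' : NP G α γ) :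
    ∃ u ∈ G0 G, (u : Module.End k M) * α * (u⁻¹ : GLM k M) = α ∧ (u : Module.End k M) * β * (u⁻¹ : GLM k M) = γ := by
  have : Finite M := Module.finite_of_finite k
  have : Finite (Module.End k M) := Finite.of_injective _ DFunLike.coe_injective
  obtain ⟨l, hl0, hl⟩ := exists_sq_ne_one hk2 hk3
  have ha : l - 1 ≠ 0 := fun e => hl (by rw [sub_eq_zero.1 e, one_mul])
  have hb : l⁻¹ - 1 ≠ 0 := fun e => hl (by rw [inv_eq_one.1 (sub_eq_zero.1 e), one_mul])
  have hab : l - 1 ≠ l⁻¹ - 1 := fun e => hl (by nth_rewrite 2 [sub_left_injective e]; exact mul_inv_cancel₀ hl0)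
  let D : SL(2, k) := ⟨!![l, 0; 0, l⁻¹], by simp [Matrix.det_fin_two, hl0]⟩
  have v1 : ∀ {β} (h : NP G α β), (h.sl D : Module.End k M) = 1 + (l - 1) • (α * β) + (l⁻¹ - 1) • (β * α) := by
    intro β h; rw [h.sl_val]; simp [D, sub_smul]; abel
  have v2 : (((h.sl D)⁻¹ : GLM k M) : Module.End k M) = 1 + (l⁻¹ - 1) • (α * β) + (l - 1) • (β * α) := by
    rw [← map_inv, h.sl_val, Matrix.SpecialLinearGroup.SL2_inv_expl]; simp [D, sub_smul]; abel
  have hα := h.ma.inL.1
  have v3 : ∀ a b : k, α * (1 + a • (α * β) + b • (β * α)) = (1 + b) • α ∧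
      (1 + a • (α * β) + b • (β * α)) * α = (1 + a) • α := fun a b => by
    constructor
    · rw [mul_add, mul_add, mul_smul_comm, mul_smul_comm, ← mul_assoc, ← mul_assoc, hα, h.n1]; simp [add_smul]
    · rw [add_mul, add_mul, smul_mul_assoc, smul_mul_assoc, mul_assoc β, hα, h.n1]; simp [add_smul]
  let U : Subgroup (GLM k M) := G0 G ⊓ Unip.algGrp _ (flagJ_mul (LinearMap.ker α) (LinearMap.range α))
  have hU : ∀ u ∈ U, h.sl D * u * (h.sl D)⁻¹ ∈ U := fun u hu =>
    ⟨(G0 G).mul_mem (mul_mem (h.sl_mem D) hu.1) (inv_mem (h.sl_mem D)), by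
      change _ ∈ flagJ _ _
      rw [conj_sub, v1, v2]
      exact (flag_mul (flag_mul hu.2 (v3 _ _).1 (v3 _ _).2).2 (v3 _ _).1 (v3 _ _).2).1⟩
  let f : U → U := fun u => ⟨u.1 * (h.sl D * u.1⁻¹ * (h.sl D)⁻¹), mul_mem u.2 (hU _ (inv_mem u.2))⟩
  have hf : Function.Injective f := by
    intro u u' e
    have e1 : (u'⁻¹ * u : U).1 * h.sl D = h.sl D * (u'⁻¹ * u : U).1 := by
      have := congrArg Subtype.val e
      simp only [f] at this
      rw [Subgroup.coe_mul, Subgroup.coe_inv, show u'.1⁻¹ * u.1 * h.sl D =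
        u'.1⁻¹ * (u.1 * (h.sl D * u.1⁻¹ * (h.sl D)⁻¹)) * (h.sl D * u.1) by group, this]
      group
    obtain ⟨f1, f2, f3⟩ := flag_eqs h.n1 (u'⁻¹ * u : U).2.2
    have := alg_cent ha hb hab h.n1 f1 f2 f3 (by
      rw [← v1 h, sub_mul, mul_sub, ← Units.val_mul, e1]; simp)
    rw [sub_eq_zero, Units.val_eq_one, OneMemClass.coe_eq_one, inv_mul_eq_one] at this
    exact this.symm
  have hm : h'.sl D * (h.sl D)⁻¹ ∈ U := ⟨(G0 G).mul_mem (h'.sl_mem D) (inv_mem (h.sl_mem D)), by
    change _ ∈ flagJ _ _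
    have : ((h'.sl D * (h.sl D)⁻¹ : GLM k M) : Module.End k M) - 1 =
        ((l - 1) • (α * (γ - β)) + (l⁻¹ - 1) • ((γ - β) * α)) * ((h.sl D)⁻¹ : GLM k M) := by
      rw [Units.val_mul, ← Units.mul_inv (h.sl D), ← sub_mul, v1, v1]
      congr 1
      rw [mul_sub, sub_mul, smul_sub, smul_sub]; abel
    rw [this, v2]
    refine (flag_mul ⟨fun v => ?_, fun v hv => ?_, ?_⟩ (v3 _ _).1 (v3 _ _).2).1
    · have : α * ((l - 1) • (α * (γ - β)) + (l⁻¹ - 1) • ((γ - β) * α)) = 0 := by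
        rw [mul_add, mul_smul_comm, mul_smul_comm, ← mul_assoc, ← mul_assoc, hα, mul_sub α, sub_mul, h.n1, h'.n1]; simp
      exact LinearMap.congr_fun this v
    · rw [LinearMap.add_apply, LinearMap.smul_apply, LinearMap.smul_apply, Module.End.mul_apply _ α,
        LinearMap.mem_ker.1 hv, map_zero, smul_zero, add_zero]
      exact Submodule.smul_mem _ _ ⟨_, rfl⟩
    · rintro _ ⟨v, rfl⟩
      have : ((l - 1) • (α * (γ - β)) + (l⁻¹ - 1) • ((γ - β) * α)) * α = 0 := by
        rw [add_mul, smul_mul_assoc, smul_mul_assoc, mul_assoc _ α α, hα, mul_sub α, sub_mul, h.n1, h'.n1]; simp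
      exact LinearMap.congr_fun this v⟩
  obtain ⟨u, hu⟩ := Finite.injective_iff_surjective.1 hf ⟨_, hm⟩
  have e1 : u.1 * h.sl D * u.1⁻¹ = h'.sl D := by
    have := congrArg Subtype.val hu
    simp only [f] at this
    rw [← mul_left_inj (h.sl D)⁻¹, ← this]; group
  obtain ⟨f1, f2, -⟩ := flag_eqs h.n1 u.2.2
  have e2 : (u.1 : Module.End k M) * α * (u.1⁻¹ : GLM k M) = α := by
    rw [mul_sub, sub_eq_zero] at f1
    rw [sub_mul, sub_eq_zero] at f2
    rw [f2, one_mul, Units.mul_inv_eq_iff_eq_mul, f1, mul_one]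
  refine ⟨u, u.2.1, e2, ?_⟩
  have hc := h.conj (G0_le u.2.1)
  rw [e2] at hc
  refine alg_det ha hb hab hc.mb.inL.1 h'.mb.inL.1 hc.n1 hc.n2 h'.n1 h'.n2 ?_
  rw [← v1 h', ← e1, Units.val_mul, Units.val_mul, v1]
  conv_lhs => rw [← e2]
  simp [mul_add, add_mul, mul_assoc]

end Cfsg.Agent.H26.Cq
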