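import Mathlib
import Cfsg.Agent.H26.Cq1
import Cfsg.Agent.H01.Coprime
import Cfsg.Agent.S0205

/-!
Quadratic modules with a coprime operator group, II: `two_orbits`, the diagonal lemma `diag`, and Theorem Q (`thmQ`):
a coprime operator group centralises a central quotient of `SL₂(k)` inside `G₀`.
-/

set_option autoImplicit false
set_option linter.unusedSectionVars false

namespace Cfsg.Agent.H26.Cq

open Cfsg Polynomial H12 H12.Q
open scoped MatrixGroups commutatorElement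

theorem diag {H S : Type*} [Group H] [Group S] {A A₁ K : Subgroup H} [Finite A] (φ : S →* H)
    (hK : ∀ s, φ s ∈ K) (hAK : ∀ a ∈ A, ∀ x ∈ K, a * x * a⁻¹ ∈ K) (h1 : ∀ a ∈ A₁, ∀ s, Commute a (φ s))
    (h2 : ∀ a ∈ A, a ∉ A₁ → ∀ s t, Commute (φ s) (a * φ t * a⁻¹)) :
    ∃ ψ : S →* H, (∀ s, ψ s ∈ K ⊓ Subgroup.centralizer (A : Set H)) ∧ ∀ s, ψ s = 1 → ∀ t, Commute (φ s) (φ t) := by
  classical
  let ι := A ⧸ A₁.subgroupOf A
  let _ : Fintype ι := Fintype.ofFinite _
  let ϕ : ι → S →* H := fun i => (MulAut.conj (i.out : H)).toMonoidHom.comp φ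
  have e0 : ∀ i s, ϕ i s = (i.out : H) * φ s * (i.out : H)⁻¹ := fun _ _ => rfl
  have e1 : ∀ (a : A) s, ϕ (a : ι) s = (a : H) * φ s * (a : H)⁻¹ := fun a s => by
    obtain ⟨b, hb⟩ := QuotientGroup.mk_out_eq_mul (A₁.subgroupOf A) a
    rw [e0, hb, Subgroup.coe_mul, mul_assoc (a : H), (h1 (b : A) b.2 s).eq]; group
  have e2 : ∀ (a : A) (i : ι) s, ϕ (a • i) s = (a : H) * ϕ i s * (a : H)⁻¹ := fun a i s => by
    induction i using QuotientGroup.induction_on with | H b => ?_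
    rw [MulAction.Quotient.smul_mk, e1, e1, smul_eq_mul, Subgroup.coe_mul]; group
  have e3 : ∀ i : ι, i ≠ ((1 : A) : ι) → ∀ s t, Commute (φ s) (ϕ i t) := fun i hi s t => by
    induction i using QuotientGroup.induction_on with | H b => ?_
    rw [e1]
    exact h2 _ b.2 (fun hb => hi (QuotientGroup.eq.2 (by simpa using (A₁.subgroupOf A).inv_mem hb))) s t
  have hc : Pairwise fun i j => ∀ x y, Commute (ϕ i x) (ϕ j y) := fun i j hij x y => by
    induction i using QuotientGroup.induction_on with | H a => ?_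
    have := (e3 (a⁻¹ • j) (fun e => hij (by
      rw [inv_smul_eq_iff, MulAction.Quotient.smul_mk, smul_eq_mul, mul_one] at e; exact e.symm)) x y).map
      (MulAut.conj (a : H))
    rwa [MulAut.conj_apply, MulAut.conj_apply, ← e1, ← e2, smul_inv_smul] at this
  let ψ : S →* H := (MonoidHom.noncommPiCoprod ϕ hc).comp (MonoidHom.pi fun _ => MonoidHom.id S)
  have hc' : ∀ s, ((Finset.univ : Finset ι) : Set ι).Pairwise (Function.onFun Commute fun i => ϕ i s) :=
    fun s i _ j _ h => hc h s s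
  have e4 : ∀ s, ψ s = Finset.univ.noncommProd (fun i => ϕ i s) (hc' s) := fun _ => rfl
  refine ⟨ψ, fun s => ⟨?_, fun a ha => ?_⟩, fun s hs t => ?_⟩
  · rw [e4]
    exact K.noncommProd_mem _ fun i _ => hAK _ i.out.2 _ (hK s)
  · rw [← mul_inv_eq_iff_eq_mul, ← MulAut.conj_apply, e4, Finset.map_noncommProd]
    have : Finset.univ.val.map (fun i => MulAut.conj a (ϕ i s)) = Finset.univ.val.map (fun i => ϕ i s) := by
      conv_rhs => rw [← Multiset.map_univ_val_equiv (MulAction.toPerm (⟨a, ha⟩ : A)), Multiset.map_map]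
      exact Multiset.map_congr rfl fun i _ => (e2 ⟨a, ha⟩ i s).symm
    unfold Finset.noncommProd
    congr 1
  · rw [e4, ← Finset.mul_noncommProd_erase _ (Finset.mem_univ ((1 : A) : ι)), mul_eq_one_iff_eq_inv, e1] at hs
    simp only [OneMemClass.coe_one, one_mul, inv_one, mul_one] at hs
    rw [hs]
    exact (Finset.noncommProd_commute _ _ _ _ fun i hi => e3 i (Finset.ne_of_mem_erase hi) t s).symm.inv_left

variable {k : Type*} [Field k] {M : Type*} [AddCommGroup M] [Module k M] [FiniteDimensional k M]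
variable {G : Subgroup (GLM k M)} {α β γ δ ε : Module.End k M}

theorem cj_inL (hα : InL G α) (h : Cj G α β) : InL G β := by
  obtain ⟨g, hg, rfl⟩ := h
  exact hα.conj (G0_le hg)

theorem cj_min (hα : MinEl G α) (h : Cj G α β) : MinEl G β := by
  obtain ⟨g, hg, rfl⟩ := h
  exact hα.conj (G0_le hg)

theorem cj_refl : Cj G α α := ⟨1, one_mem _, by simp⟩

theorem cj_conj (h : Cj G α β) {g : GLM k M} (hg : g ∈ G) :
    Cj G ((g : Module.End k M) * α * (g⁻¹ : GLM k M)) ((g : Module.End k M) * β * (g⁻¹ : GLM k M)) := by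
  obtain ⟨x, hx, rfl⟩ := h
  exact ⟨g * x * g⁻¹, G0_normal hg hx, by simp [mul_assoc]⟩

theorem exists_min (h : InL G γ) (h0 : γ ≠ 0) : ∃ α, MinEl G α := by
  classical
  have hex : ∃ n, ∃ α, InL G α ∧ α ≠ 0 ∧ rk α = n := ⟨_, γ, h, h0, rfl⟩
  obtain ⟨α, h1, h2, h3⟩ := Nat.find_spec hex
  exact ⟨α, h1, h2, fun β hβ hβ0 => h3 ▸ Nat.find_min' hex ⟨β, hβ, hβ0, rfl⟩⟩

variable (hk2 : ringChar k ≠ 2) (hk3 : Nat.card k ≠ 3)
include hk2 hk3

theorem NP.inE_sq (h : NP G α β) (hγ : InE G α γ) : InE G α (γ * β * γ) := by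
  by_cases h0 : γ = 0
  · simpa [h0] using InE.zero
  exact hγ.trans (InE.of_mul (cj_inL h.ma.inL (h.cj_sq hk2 hk3 hγ h0)) (mul_assoc _ _ _) rfl)

theorem NP.no_zero (h : NP G α β) (hγ : InE G α γ) (hδ : InE G α δ) (e : γ * β * δ = 0) : γ = 0 ∨ δ = 0 := by
  refine or_iff_not_imp_left.2 fun h0 => LinearMap.ext fun w => ?_
  obtain ⟨hm, hi⟩ := hγ.symm h.ma h0
  obtain ⟨v, hv⟩ := (hi.trans hδ).rng ⟨w, rfl⟩
  rw [← hv]
  refine inj_of_opp hk2 hk3 hm h.mb.inL (h.opp hk2 hk3 hγ h0) v ?_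
  have e1 : γ (γ v) = 0 := LinearMap.congr_fun hm.inL.1 v
  rw [LinearMap.add_apply, Module.End.mul_apply β, e1, map_zero, add_zero, hv]
  exact LinearMap.congr_fun e w

variable [Finite k]

theorem NP.sq_fiber (h : NP G α β) (hγ : InE G α γ) (hδ : InE G α δ) (e : γ * β * γ = δ * β * δ) :
    γ = δ ∨ γ = -δ := by
  have : Finite M := Module.finite_of_finite k
  have : Finite (Module.End k M) := Finite.of_injective _ DFunLike.coe_injective
  have idem : IsIdempotentElem (α * β) := by rw [IsIdempotentElem, ← mul_assoc, h.n1]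
  have : Finite idem.Corner := inferInstanceAs (Finite (Subsemigroup.corner (α * β)))
  have back : ∀ {γ}, InE G α γ → γ * β * α = γ := fun hγ => by
    have := hγ.right (φ := 1 - β * α) (by rw [mul_sub, ← mul_assoc, h.n1, mul_one, sub_self])
    rw [mul_sub, mul_one, sub_eq_zero] at this
    rw [mul_assoc, ← this]
  have mem : ∀ {γ}, InE G α γ → γ * β ∈ Subsemigroup.corner (α * β) := fun {γ} hγ => by
    have := hγ.left (φ := 1 - α * β) (by rw [sub_mul, h.n1, one_mul, sub_self])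
    rw [sub_mul, one_mul, sub_eq_zero] at this
    exact (Subsemigroup.mem_corner_iff idem).2 ⟨by rw [← mul_assoc, ← this], by rw [← mul_assoc, back hγ]⟩
  let J : AddSubgroup idem.Corner :=
    { carrier := {x | ∃ γ, InE G α γ ∧ x.1 = γ * β}
      add_mem' := by
        rintro a b ⟨x, hx, ex⟩ ⟨y, hy, ey⟩
        exact ⟨x + y, hx.add h.ma.inL.1 hy, by rw [add_mul, ← ex, ← ey]; rfl⟩
      zero_mem' := ⟨0, InE.zero, (zero_mul _).symm⟩
      neg_mem' := by
        rintro a ⟨x, hx, ex⟩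
        exact ⟨-x, hx.neg, by rw [neg_mul, ← ex]; rfl⟩ }
  have := jordan_sq J ⟨α, InE.refl h.ma.inL, rfl⟩ (by
    rintro a ⟨x, hx, ex⟩
    exact ⟨_, h.inE_sq hk2 hk3 hx, by rw [mul_assoc, ← ex]; rfl⟩) (fun x hx => Subtype.ext (by
      have e : (2 : k) • x.1 = 0 := by rw [two_smul]; exact congrArg Subtype.val hx
      exact (smul_eq_zero.1 e).resolve_left (Ring.two_ne_zero hk2))) (by
    rintro a ⟨x, hx, ex⟩ b ⟨y, hy, ey⟩ e
    have e' : a.1 * b.1 = 0 := congrArg Subtype.val e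
    refine (h.no_zero hk2 hk3 hx hy ?_).imp (fun e => Subtype.ext ?_) (fun e => Subtype.ext ?_)
    · rw [← back hy, mul_assoc y, ← mul_assoc, ← mul_assoc, mul_assoc (x * β), ← ex, ← ey, e', zero_mul]
    · rw [ex, e, zero_mul]; rfl
    · rw [ey, e, zero_mul]; rfl) (c := ⟨_, mem hγ⟩) (d := ⟨_, mem hδ⟩) ⟨_, hγ, rfl⟩ ⟨_, hδ, rfl⟩
    (Subtype.ext (by
      change γ * β * (γ * β) = δ * β * (δ * β)
      rw [← mul_assoc, e, mul_assoc]))
  refine this.imp (fun e => ?_) (fun e => ?_)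
  · have e' : γ * β = δ * β := congrArg Subtype.val e
    rw [← back hγ, e', back hδ]
  · have e' : γ * β = -(δ * β) := congrArg Subtype.val e
    rw [← back hγ, e', neg_mul, back hδ]

theorem two_orbits (hU : NoU G) (hα : MinEl G α) (h1 : InE G α γ) (h2 : InE G α δ) (h3 : InE G α ε)
    (n1 : γ ≠ 0) (n2 : δ ≠ 0) (n3 : ε ≠ 0) : Cj G γ δ ∨ Cj G γ ε ∨ Cj G δ ε := by
  classical
  have : Finite M := Module.finite_of_finite k
  have : Finite (Module.End k M) := Finite.of_injective _ DFunLike.coe_injective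
  let _ := Fintype.ofFinite (Module.End k M)
  let E : Finset (Module.End k M) := {x | InE G α x ∧ x ≠ 0}
  have key : ∀ {γ}, InE G α γ → γ ≠ 0 → E.card ≤ 2 * (E.filter (Cj G γ)).card := by
    intro γ h1 n1
    obtain ⟨hm, hi⟩ := h1.symm hα n1
    obtain ⟨β, hβ⟩ := exists_np hk2 hk3 hU hm
    refine Finset.card_le_mul_card_image_of_maps_to (f := fun x => x * β * x) (fun x hx => ?_) 2 fun y _ => ?_
    · have hx' := (Finset.mem_filter.1 hx).2
      exact Finset.mem_filter.2 ⟨Finset.mem_filter.2 ⟨Finset.mem_univ _, h1.trans (hβ.inE_sq hk2 hk3 (hi.trans hx'.1)),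
        hβ.opp hk2 hk3 (hi.trans hx'.1) hx'.2⟩, hβ.cj_sq hk2 hk3 (hi.trans hx'.1) hx'.2⟩
    · rcases (E.filter fun x => x * β * x = y).eq_empty_or_nonempty with e | ⟨x, hx⟩
      · rw [e]; simp
      refine (Finset.card_le_card (t := {x, -x}) fun z hz => ?_).trans Finset.card_le_two
      rw [Finset.mem_filter, Finset.mem_filter] at hx hz
      simpa using hβ.sq_fiber hk2 hk3 (hi.trans hz.1.2.1) (hi.trans hx.1.2.1) (hz.2.trans hx.2.symm)
  by_contra hn
  push Not at hn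
  have dj : ∀ {γ δ}, ¬ Cj G γ δ → Disjoint (E.filter (Cj G γ)) (E.filter (Cj G δ)) := fun h =>
    Finset.disjoint_filter.2 fun x _ e1 e2 => h (e1.trans e2.symm)
  have := Finset.card_le_card (s := E.filter (Cj G γ) ∪ E.filter (Cj G δ) ∪ E.filter (Cj G ε)) (t := E)
    (Finset.union_subset (Finset.union_subset (Finset.filter_subset _ _) (Finset.filter_subset _ _))
      (Finset.filter_subset _ _))
  rw [Finset.card_union_of_disjoint (Finset.disjoint_union_left.2 ⟨dj hn.2.1, dj hn.2.2⟩),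
    Finset.card_union_of_disjoint (dj hn.1)] at this
  have a := key h1 n1
  have b := key h2 n2
  have c := key h3 n3
  have d : 0 < E.card := Finset.card_pos.2 ⟨γ, Finset.mem_filter.2 ⟨Finset.mem_univ _, h1, n1⟩⟩
  omega

omit hk2 hk3 in
/-- pairs of endomorphisms, permuted by conjugation -/
def Pr (k M : Type*) [Field k] [AddCommGroup M] [Module k M] := Module.End k M × Module.End k M

omit hk2 hk3 in
instance : MulAction (GLM k M) (Pr k M) where
  smul g x := ((g : Module.End k M) * x.1 * (g⁻¹ : GLM k M), (g : Module.End k M) * x.2 * (g⁻¹ : GLM k M))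
  one_smul x := Prod.ext (by change (1 : GLM k M).1 * x.1 * (1⁻¹ : GLM k M) = x.1; simp)
    (by change (1 : GLM k M).1 * x.2 * (1⁻¹ : GLM k M) = x.2; simp)
  mul_smul g h x := Prod.ext
    (by change (g * h).1 * x.1 * ((g * h)⁻¹ : GLM k M) = g.1 * (h.1 * x.1 * (h⁻¹ : GLM k M)) * (g⁻¹ : GLM k M)
        simp [mul_assoc])
    (by change (g * h).1 * x.2 * ((g * h)⁻¹ : GLM k M) = g.1 * (h.1 * x.2 * (h⁻¹ : GLM k M)) * (g⁻¹ : GLM k M)
        simp [mul_assoc])

/-- an operator of odd order that fixes the class of `E(α)` fixes the `G₀`-orbit of `α` -/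
theorem cj_of_odd (hU : NoU G) (hα : MinEl G α) {B : Subgroup (GLM k M)} (hB : B ≤ G) (hodd : Odd (Nat.card B))
    (hc : ∀ b ∈ B, conjBy (Esub G α) b ∈ Cls G (Esub G α)) {a : GLM k M} (ha : a ∈ B) :
    Cj G α ((a : Module.End k M) * α * (a⁻¹ : GLM k M)) := by
  have e1 : ∀ b ∈ B, ∃ γ, InE G α γ ∧ γ ≠ 0 ∧ Cj G γ ((b : Module.End k M) * α * (b⁻¹ : GLM k M)) := by
    intro b hb
    obtain ⟨g, hg, e⟩ := hc b hb
    have hm := hα.conj (G.mul_mem (inv_mem (G0_le hg)) (hB hb))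
    refine ⟨_, ?_, hm.ne, g, hg, by simp [mul_assoc]⟩
    have := un_mem_Esub hm.inL.1 (InE.refl hm.inL)
    rw [← Esub_conj hα.inL.1 (G.mul_mem (inv_mem (G0_le hg)) (hB hb)), conjBy_mul, e, conjBy_inv_conjBy,
      mem_Esub hα.inL.1, un_sub] at this
    exact this
  by_contra hn
  have e2 : Cj G α (((a * a : GLM k M) : Module.End k M) * α * ((a * a)⁻¹ : GLM k M)) := by
    obtain ⟨γ, g1, g2, g3⟩ := e1 a ha
    obtain ⟨δ, d1, d2, d3⟩ := e1 _ (mul_mem ha ha)
    rcases two_orbits hk2 hk3 hU hα (InE.refl hα.inL) g1 d1 hα.ne g2 d2 with h | h | h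
    · exact absurd (h.trans g3) hn
    · exact h.trans d3
    · have := cj_conj ((g3.symm.trans h).trans d3) (inv_mem (hB ha))
      exact absurd (by simpa [mul_assoc] using this) hn
  have e3 : ∀ n : ℕ, Cj G α ((((a * a) ^ n : GLM k M) : Module.End k M) * α * (((a * a) ^ n)⁻¹ : GLM k M)) := by
    intro n
    induction n with
    | zero => simpa using cj_refl
    | succ n ih =>
      have := e2.trans (cj_conj ih (hB (mul_mem ha ha)))
      rw [pow_succ']
      simpa [mul_assoc] using this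
  obtain ⟨m, hm⟩ := hodd
  have e4 : (a * a) ^ (m + 1) = a := by
    have : a ^ Nat.card B = 1 := congrArg Subtype.val (pow_card_eq_one' (x := (⟨a, ha⟩ : B)))
    rw [← sq, ← pow_mul, show 2 * (m + 1) = Nat.card B + 1 by omega, pow_succ, this, one_mul]
  have := e3 (m + 1)
  rw [e4] at this
  exact hn this

theorem odd_of_np (h : NP G α β) {n : ℕ} (hc : n.Coprime (Nat.card (G0 G))) : Odd n := by
  have h1 : orderOf (⟨h.sl (-1), h.sl_mem _⟩ : G0 G) = 2 := by
    have : Fact (Nat.Prime 2) := ⟨Nat.prime_two⟩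
    refine orderOf_eq_prime (Subtype.ext ?_) fun e => ?_
    · change h.sl (-1) ^ 2 = 1
      rw [← map_pow]; simp
    · have := slHom_inj _ _ _ _ h.ma.ne ((congrArg Subtype.val e).trans (map_one h.sl).symm)
      have := congrArg (fun x : SL(2, k) => x.1 0 0) this
      exact Ring.two_ne_zero hk2 (by simp at this; linear_combination -this)
  exact Nat.coprime_two_right.1 (hc.coprime_dvd_right (h1 ▸ orderOf_dvd_natCard _))

theorem fixed_np (hU : NoU G) (hα : MinEl G α) {B : Subgroup (GLM k M)} (hB : B ≤ G)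
    (hc : (Nat.card B).Coprime (Nat.card (G0 G))) (hcl : ∀ b ∈ B, conjBy (Esub G α) b ∈ Cls G (Esub G α)) :
    ∃ α' β', Cj G α α' ∧ NP G α' β' ∧
      ∀ b ∈ B, (b : Module.End k M) * α' = α' * b ∧ (b : Module.End k M) * β' = β' * b := by
  have : Finite M := Module.finite_of_finite k
  have : Finite (Module.End k M) := Finite.of_injective _ DFunLike.coe_injective
  obtain ⟨β, hβ⟩ := exists_np hk2 hk3 hU hα
  have hodd := odd_of_np hk2 hk3 hβ hc
  obtain ⟨g, hg, hfix⟩ := H01.glauberman_fixed (X := Pr k M) (A := B) (K := G0 G)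
    (H01.le_normalizer_of_conj_mem fun a ha x hx => G0_normal (hB ha) hx) hc
    (Or.inl (Cfsg.Agent.S0205.result hodd)) (α, β) (fun a ha => by
      obtain ⟨g, hg, e⟩ := cj_of_odd hk2 hk3 hU hα hB hodd hcl ha
      have h1 := hβ.conj (G0_le hg)
      rw [← e] at h1
      obtain ⟨u, hu, u1, u2⟩ := h1.partner_conj hk2 hk3 (hβ.conj (hB ha))
      refine ⟨u * g, mul_mem hu hg, ?_⟩
      refine Eq.trans ?_ (mul_smul (β := Pr k M) u g (α, β)).symm
      exact Prod.ext (u1.symm.trans (by rw [e]; rfl)) u2.symm)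
  exact ⟨_, _, ⟨g, hg, rfl⟩, hβ.conj (G0_le hg), fun a ha =>
    ⟨(Units.mul_inv_eq_iff_eq_mul _).1 (congrArg Prod.fst (hfix a ha)),
      (Units.mul_inv_eq_iff_eq_mul _).1 (congrArg Prod.snd (hfix a ha))⟩⟩

omit hk2 hk3 [Finite k] in
/-- the stabiliser in `A` of the class of `E` -/
def stabCls {A : Subgroup (GLM k M)} (hA : A ≤ G) (E : Subgroup (GLM k M)) : Subgroup (GLM k M) where
  carrier := {a | a ∈ A ∧ Cls G (conjBy E a) = Cls G E}
  mul_mem' := fun {a b} ha hb => ⟨mul_mem ha.1 hb.1, by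
    obtain ⟨g, hg, e⟩ := hb.2 ▸ Cls.self (conjBy E b)
    rw [← ha.2]
    refine Cls.eq ⟨a * g * a⁻¹, G0_normal (hA ha.1) hg, ?_⟩
    rw [conjBy_mul, e, conjBy_conjBy, conjBy_conjBy, inv_mul_cancel_right]⟩
  one_mem' := ⟨one_mem _, by simp⟩
  inv_mem' := fun {a} ha => ⟨inv_mem ha.1, by
    obtain ⟨g, hg, e⟩ := ha.2 ▸ Cls.self (conjBy E a)
    refine Cls.eq ⟨a⁻¹ * g⁻¹ * a⁻¹⁻¹, G0_normal (inv_mem (hA ha.1)) (inv_mem hg), ?_⟩
    rw [inv_inv, conjBy_mul, e, conjBy_conjBy, inv_mul_cancel_right]⟩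

omit hk2 hk3 [Finite k] in
theorem NP.cls (h : NP G α β) : Cls G (Esub G β) = Cls G (Esub G α) := by
  rw [← Esub_eq h.mb (InE.refl h.mb.inL).neg (neg_ne_zero.2 h.mb.ne)]
  exact Cls.eq (h.cj_neg.conj h.ma.inL.1)

omit hk2 hk3 [Finite k] in
theorem NP.sl_conj (h : NP G α β) {a : GLM k M} (ha : a ∈ G) (t : SL(2, k)) :
    a * h.sl t * a⁻¹ = (h.conj ha).sl t := Units.ext (by
  rw [Units.val_mul, Units.val_mul, h.sl_val, NP.sl_val]
  simp [mul_add, add_mul, mul_sub, sub_mul, mul_assoc])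

omit [Finite k] in
theorem comm_of_cls (hU : NoU G) (hx : MinEl G α) (hy : MinEl G β) (hne : Cls G (Esub G α) ≠ Cls G (Esub G β)) :
    α * β = β * α :=
  comm_of_bot hx.inL hy.inL ((sigma_pair hk2 hk3 hU (mem_Sigma.2 ⟨_, hx, rfl⟩)
    (mem_Sigma.2 ⟨_, hy, rfl⟩)).resolve_right fun h => hne (Cls.eq h.1).symm)

omit [Finite k] in
theorem NP.commute_sl (hU : NoU G) (h1 : NP G α β) (h2 : NP G γ δ) (hne : Cls G (Esub G γ) ≠ Cls G (Esub G α))
    (s t : SL(2, k)) : Commute (h1.sl s) (h2.sl t) := by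
  refine Units.ext (h2.sl_comm (h1.sl_comm ?_ ?_ s).symm (h1.sl_comm ?_ ?_ s).symm t)
  · exact comm_of_cls hk2 hk3 hU h2.ma h1.ma hne
  · exact comm_of_cls hk2 hk3 hU h2.ma h1.mb (by rwa [h1.cls])
  · exact comm_of_cls hk2 hk3 hU h2.mb h1.ma (by rwa [h2.cls])
  · exact comm_of_cls hk2 hk3 hU h2.mb h1.mb (by rwa [h1.cls, h2.cls])

/-- Theorem Q -/
theorem thmQ (hU : NoU G) (hγ : InL G γ) (h0 : γ ≠ 0) {A : Subgroup (GLM k M)} (hA : A ≤ G)
    (hc : (Nat.card A).Coprime (Nat.card (G0 G))) :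
    ∃ ψ : SL(2, k) →* GLM k M, (∀ s, ψ s ∈ G0 G ⊓ Subgroup.centralizer (A : Set (GLM k M))) ∧
      ψ.ker ≤ Subgroup.center _ := by
  have : Finite M := Module.finite_of_finite k
  have : Finite (Module.End k M) := Finite.of_injective _ DFunLike.coe_injective
  obtain ⟨α, hα⟩ := exists_min hγ h0
  have hle : stabCls hA (Esub G α) ≤ A := fun a ha => ha.1
  obtain ⟨α', β', ⟨g, hg, hα'⟩, h1, hfix⟩ := fixed_np hk2 hk3 hU hα (hle.trans hA) (H01.coprime_of_le_left hc hle)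
    (fun b hb => hb.2 ▸ Cls.self (conjBy (Esub G α) b))
  have c1 : Cls G (Esub G α') = Cls G (Esub G α) := Cls.eq (Cj.conj hα.inL.1 ⟨g, hg, hα'⟩)
  obtain ⟨ψ, p1, p2⟩ := diag (A := A) (A₁ := stabCls hA (Esub G α)) (K := G0 G) h1.sl h1.sl_mem
    (fun a ha x hx => G0_normal (hA ha) hx)
    (fun a ha s => Units.ext (h1.sl_comm (hfix a ha).1 (hfix a ha).2 s)) (fun a ha ha1 s t => by
      rw [h1.sl_conj (hA ha)]
      refine h1.commute_sl hk2 hk3 hU _ (fun e => ha1 ⟨ha, ?_⟩) s t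
      rw [← c1, ← e, ← Esub_conj h1.ma.inL.1 (hA ha), hα', ← Esub_conj hα.inL.1 (G0_le hg)]
      refine (Cls.eq ⟨a * g * a⁻¹, G0_normal (hA ha) hg, ?_⟩).symm
      rw [conjBy_conjBy, conjBy_conjBy, inv_mul_cancel_right])
  refine ⟨ψ, p1, fun s hs => Subgroup.mem_center_iff.2 fun t =>
    slHom_inj h1.ma.inL.1 h1.mb.inL.1 h1.n1 h1.n2 h1.ma.ne ?_⟩
  rw [map_mul, map_mul]
  exact (p2 s hs t).eq.symm

end Cfsg.Agent.H26.Cq
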