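import Mathlib
import Cfsg.Agent.H26.Cq2
import Cfsg.Agent.H17.Stab3

/-!
Coprime operator groups and `p`-stability: if `C_G(A)` has no section `PSL₂(p)`, `p ≥ 5`, then `GA` is weakly `p`-stable
(`Hyp.stable`), hence the ZJ-theorem holds (`zj_core`).
-/

set_option autoImplicit false
set_option linter.unusedSectionVars false

namespace Cfsg.Agent.H26.Cq

open Cfsg H12 H12.Q H17 Subgroup
open scoped MatrixGroups commutatorElement

universe u

theorem solv_or {m n : ℕ} (h : m.Coprime n) {A B : Type*} [Group A] [Group B] [Finite A] [Finite B]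
    (hA : Nat.card A ∣ m) (hB : Nat.card B ∣ n) : Group.IsSolvable A ∨ Group.IsSolvable B := by
  rcases Nat.even_or_odd m with e | e
  · exact Or.inr (Cfsg.Agent.S0205.result ((Nat.coprime_two_left.1 (h.coprime_dvd_left e.two_dvd)).of_dvd_nat hB))
  · exact Or.inl (Cfsg.Agent.S0205.result (e.of_dvd_nat hA))

theorem mem_of_pow {H : Type*} [Group H] {K : Subgroup H} {g : H} {n m : ℕ} (hc : n.Coprime m) (h1 : g ^ m = 1)
    (h2 : g ^ n ∈ K) : g ∈ K := by
  have := mem_zpowers_pow_iff.2 (hc.coprime_dvd_right (orderOf_dvd_of_pow_eq_one h1))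
  exact zpowers_le.2 h2 this

theorem normal_map_char {G Γ : Type*} [Group G] [Group Γ] {j : G →* Γ} (hj : Function.Injective j)
    [j.range.Normal] (K : Subgroup G) [hK : K.Characteristic] : (K.map j).Normal := by
  refine ⟨?_⟩
  rintro _ ⟨y, hy, rfl⟩ x
  let e := MonoidHom.ofInjective hj
  let φ : G ≃* G := e.trans ((MulAut.conjNormal x).trans e.symm)
  refine ⟨φ y, (characteristic_iff_map_le.1 hK φ) ⟨y, hy, rfl⟩, ?_⟩
  exact (MonoidHom.apply_ofInjective_symm hj _).trans rfl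

variable {p : ℕ} [hp : Fact p.Prime]

theorem zmod_facts (h5 : 5 ≤ p) : ringChar (ZMod p) ≠ 2 ∧ Nat.card (ZMod p) ≠ 3 := by
  rw [ZMod.ringChar_zmod_n, Nat.card_zmod]; omega

section lin
variable {M : Type*} [AddCommGroup M] [Module (ZMod p) M]

theorem pow_val {g : GLM (ZMod p) M} (h : ((g : Module.End (ZMod p) M) - 1) * (g.1 - 1) = 0) (n : ℕ) :
    ((g ^ n : GLM (ZMod p) M) : Module.End (ZMod p) M) = 1 + (n : ZMod p) • (g.1 - 1) := by
  induction n with
  | zero => simp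
  | succ n ih =>
    rw [pow_succ, Units.val_mul, ih]
    nth_rewrite 2 [val_eq g]
    rw [add_mul, mul_add ((n : ZMod p) • _), smul_mul_assoc, smul_mul_assoc, h]
    simp [add_smul]; abel

theorem inL_of_mem {G : Subgroup (GLM (ZMod p) M)} {g : GLM (ZMod p) M} (hg : g ∈ G)
    (h : ((g : Module.End (ZMod p) M) - 1) * (g.1 - 1) = 0) : InL G (g.1 - 1) :=
  ⟨h, fun c => ⟨g ^ c.val, pow_mem hg _, by rw [pow_val h, ZMod.natCast_zmod_val]⟩⟩

theorem pow_p_eq {g : GLM (ZMod p) M} (h : ((g : Module.End (ZMod p) M) - 1) * (g.1 - 1) = 0) : g ^ p = 1 :=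
  Units.ext (by rw [pow_val h]; simp)

end lin

theorem lin_aux {Γ V : Type u} [Group Γ] [CommGroup V] [Finite V] [Module (ZMod p) (Additive V)] (φ : Γ →* MulAut V)
    (hne : ∃ v : V, v ≠ 1) (hmin : ∀ U : Subgroup V, (∀ g, ∀ u ∈ U, φ g u ∈ U) → U = ⊥ ∨ U = ⊤) {a : Γ}
    (ha : ∀ v, φ a (φ a v * v⁻¹) = φ a v * v⁻¹)
    (h : ∀ (M : Type u) [AddCommGroup M] [Module (ZMod p) M] [FiniteDimensional (ZMod p) M] (ρ : Γ →* GLM (ZMod p) M),
      NoU ρ.range → ((ρ a).1 - 1) * ((ρ a).1 - 1) = 0 → ρ a = 1) (v : V) : φ a v = v := by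
  have : Module.Finite (ZMod p) (Additive V) := Module.Finite.of_finite
  let ρ : Γ →* Module.End (ZMod p) (Additive V) :=
    { toFun := fun g => (MonoidHom.toAdditive (φ g).toMonoidHom).toZModLinearMap p
      map_one' := by ext v; simp
      map_mul' := fun g h => by ext v; simp }
  have hρ : ∀ g v, ρ g v = Additive.ofMul (φ g v.toMul) := fun _ _ => rfl
  have := h (Additive V) ρ.toHomUnits (noU_of_irr ⟨hne, fun U hU => ?_⟩) ?_
  · have e := hρ a (Additive.ofMul v)
    rw [show ρ a = 1 from congrArg Units.val this] at e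
    exact e.symm
  · refine (hmin (AddSubgroup.toSubgroup U.toAddSubgroup) fun g u hu => hU _ ⟨g, rfl⟩ _ hu).imp
      (fun e => eq_bot_iff.2 fun w hw => e.le hw) (fun e => eq_top_iff.2 fun w _ => e.ge (mem_top w.toMul))
  · ext v
    change (ρ a - 1) ((ρ a - 1) v) = 0
    have h1 : (ρ a - 1) v = Additive.ofMul (φ a v.toMul * v.toMul⁻¹) := by
      rw [LinearMap.sub_apply, hρ, sub_eq_add_neg]; rfl
    rw [h1, LinearMap.sub_apply, hρ, toMul_ofMul, ha]
    simp

/-- the action on an elementary abelian normal subgroup is an irreducible linear representation -/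
theorem cent_of_lin {Γ : Type u} [Group Γ] [Finite Γ] {W : Subgroup Γ} [W.Normal] (hW : IsElementaryAbelian p W)
    (hne : W ≠ ⊥) (hmin : ∀ M : Subgroup Γ, M.Normal → M ≤ W → M = ⊥ ∨ M = W) {a : Γ}
    (hq : ⁅⁅W, zpowers a⁆, zpowers a⁆ = ⊥)
    (h : ∀ (M : Type u) [AddCommGroup M] [Module (ZMod p) M] [FiniteDimensional (ZMod p) M] (ρ : Γ →* GLM (ZMod p) M),
      NoU ρ.range → ((ρ a).1 - 1) * ((ρ a).1 - 1) = 0 → ρ a = 1) : a ∈ centralizer (W : Set Γ) := by
  have := hW.1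
  let inst : CommGroup W := { (inferInstance : Group W) with mul_comm := mul_comm' }
  let inst2 : Module (ZMod p) (Additive W) := AddCommGroup.zmodModule (n := p) (fun x => by
    change Additive.ofMul (x.toMul ^ p) = 0
    rw [show x.toMul ^ p = 1 from Subtype.ext (hW.2 _ x.toMul.2)]; rfl)
  have := @lin_aux p _ Γ W _ inst _ inst2 MulAut.conjNormal (ne_bot_iff_exists_ne_one.1 hne) (fun U hU => ?_) a
    (fun v => Subtype.ext ?_) h
  · intro w hw
    exact (mul_inv_eq_iff_eq_mul.1 (congrArg Subtype.val (this ⟨w, hw⟩))).symm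
  · have hN : (U.map W.subtype).Normal := ⟨by
      rintro _ ⟨w, hw, rfl⟩ g
      exact ⟨_, hU g w hw, rfl⟩⟩
    refine (hmin _ hN (map_subtype_le _)).imp (fun e => eq_bot_iff.2 fun w hw => ?_) (fun e => eq_top_iff.2 fun w _ => ?_)
    · exact Subtype.ext (mem_bot.1 (e.le ⟨w, hw, rfl⟩))
    · obtain ⟨v, hv, e⟩ := e.ge w.2
      rwa [show v = w from Subtype.ext e] at hv
  · have h2 := (commute_commutator_of_quad hq (mem_zpowers a) (mem_zpowers a) v.2).eq
    change a * ⁅a, (v : Γ)⁆ * a⁻¹ = ⁅a, (v : Γ)⁆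
    rw [← h2, mul_inv_cancel_right]

/-- the standing hypothesis: `A` is a coprime operator group on `G` with `PSL₂(p)`-free fixed points -/
structure Hyp (p : ℕ) {Γ : Type*} [Group Γ] (G A : Subgroup Γ) : Prop where
  nrm : G.Normal
  pow : ∀ x : Γ, ∃ n : ℕ, n.Coprime p ∧ x ^ n ∈ G
  cop : (Nat.card A).Coprime (Nat.card G)
  sec : ¬ Sec PSL(2, ZMod p) ↥(G ⊓ centralizer (A : Set Γ))

section
variable {Γ Γ' : Type*} [Group Γ] [Finite Γ] [Group Γ'] {G A : Subgroup Γ}

theorem Hyp.sec_map (h : Hyp p G A) (f : Γ →* Γ') :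
    ¬ Sec PSL(2, ZMod p) ↥(G.map f ⊓ centralizer (A.map f : Set Γ')) := by
  have := h.nrm
  have hc := H01.coprime_of_le_right h.cop (inf_le_left : G ⊓ f.ker ≤ G)
  rw [H01.centralizer_map_eq f le_normalizer_of_normal hc (solv_or hc dvd_rfl dvd_rfl)]
  exact fun e => h.sec e.of_map

theorem Hyp.cop_map (h : Hyp p G A) (f : Γ →* Γ') : (Nat.card (A.map f)).Coprime (Nat.card (G.map f)) :=
  (h.cop.coprime_dvd_left (card_map_dvd _ _)).coprime_dvd_right (card_map_dvd _ _)

theorem Hyp.map (h : Hyp p G A) {f : Γ →* Γ'} (hf : Function.Surjective f) : Hyp p (G.map f) (A.map f) := by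
  refine ⟨h.nrm.map f hf, fun x => ?_, h.cop_map f, h.sec_map f⟩
  obtain ⟨x, rfl⟩ := hf x
  obtain ⟨n, h1, h2⟩ := h.pow x
  exact ⟨n, h1, _, h2, map_pow f x n⟩

theorem G0_le_map (hG : ∀ x : Γ, ∃ n : ℕ, n.Coprime p ∧ x ^ n ∈ G) {M : Type*} [AddCommGroup M] [Module (ZMod p) M]
    (ρ : Γ →* GLM (ZMod p) M) : G0 ρ.range ≤ G.map ρ := (closure_le _).2 fun g hg => by
  obtain ⟨x, rfl⟩ := hg.inL.mem (val_eq g)
  obtain ⟨n, h1, h2⟩ := hG x
  exact mem_of_pow h1 (pow_p_eq hg.inL.1) ⟨_, h2, map_pow ρ x n⟩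

theorem Hyp.lin (h : Hyp p G A) (h5 : 5 ≤ p) {M : Type*} [AddCommGroup M] [Module (ZMod p) M]
    [FiniteDimensional (ZMod p) M] (ρ : Γ →* GLM (ZMod p) M) (hU : NoU ρ.range) {a : Γ}
    (hq : ((ρ a).1 - 1) * ((ρ a).1 - 1) = 0) : ρ a = 1 := by
  by_contra hne
  have hle := G0_le_map h.pow ρ
  obtain ⟨ψ, h1, h2⟩ := thmQ (zmod_facts h5).1 (zmod_facts h5).2 hU (inL_of_mem ⟨a, rfl⟩ hq) (sub_ne_zero_iff.2 hne)
    (map_le_range ρ A) (H01.coprime_of_le_right (h.cop_map ρ) hle)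
  let ψ' := ψ.codRestrict (G.map ρ ⊓ centralizer (A.map ρ : Set _)) fun s => ⟨hle (h1 s).1, (h1 s).2⟩
  refine h.sec_map ρ (Sec.of_hom (QuotientGroup.kerLift ψ') (QuotientGroup.kerLift_injective _)
    (QuotientGroup.map _ _ (MonoidHom.id _) fun s hs => h2 (congrArg Subtype.val hs)) fun x => ?_)
  obtain ⟨x, rfl⟩ := QuotientGroup.mk_surjective x
  exact ⟨x, rfl⟩

end

/-- stability from the absence of quadratic action on chief factors -/
theorem stable_aux (X : ∀ (Γ : Type u) [Group Γ], Γ → Prop)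
    (hX : ∀ (Γ : Type u) [Group Γ] [Finite Γ] (a : Γ) (N : Subgroup Γ) [N.Normal], IsPGroup p N → X Γ a → X (Γ ⧸ N) a)
    (hl : ∀ (Γ : Type u) [Group Γ] [Finite Γ] (a : Γ), X Γ a → ∀ (M : Type u) [AddCommGroup M] [Module (ZMod p) M]
      [FiniteDimensional (ZMod p) M] (ρ : Γ →* GLM (ZMod p) M),
      NoU ρ.range → ((ρ a).1 - 1) * ((ρ a).1 - 1) = 0 → ρ a = 1) (n : ℕ) :
    ∀ (Γ : Type u) [Group Γ] [Finite Γ] (a : Γ), X Γ a → Nat.card Γ = n → ∀ (P : Subgroup Γ) [P.Normal], IsPGroup p P →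
      ⁅⁅P, zpowers a⁆, zpowers a⁆ = ⊥ → a ∈ opMod p (centralizer (P : Set Γ)) := by
  induction n using Nat.strong_induction_on with | _ n ih => ?_
  intro Γ _ _ a hXa hn P _ hP hq
  by_cases h0 : P = ⊥
  · subst h0
    exact self_le_opMod _ fun y hy => by rw [mem_bot.1 hy]; simp
  have : Group.IsNilpotent P := hP.isNilpotent
  obtain ⟨W, hWn, hW0, hWP, hmin, hc, q, hq1, hq2⟩ := H02.exists_normal_elementary_le P h0
  have hWp := hP.to_le hWP
  have hqp : q = p := by
    obtain ⟨w, hw⟩ := ne_bot_iff_exists_ne_one.1 hW0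
    have : Fact q.Prime := ⟨hq1⟩
    obtain ⟨k, hk⟩ := hWp w
    have := orderOf_dvd_of_pow_eq_one hk
    rw [orderOf_eq_prime (Subtype.ext (hq2 w w.2)) hw] at this
    exact (Nat.prime_dvd_prime_iff_eq hq1 hp.out).1 (hq1.dvd_of_dvd_pow this)
  subst hqp
  have h1 := cent_of_lin ⟨hc, hq2⟩ hW0 hmin (eq_bot_iff.2 ((commutator_mono (commutator_mono hWP le_rfl) le_rfl).trans
    hq.le)) (hl Γ a hXa)
  set f := QuotientGroup.mk' W with hf
  have hfs : Function.Surjective f := QuotientGroup.mk'_surjective _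
  have : (P.map f).Normal := Normal.map inferInstance f hfs
  have h2 := ih _ (by
    rw [← hn, ← Subgroup.index_eq_card, ← W.index_mul_card]
    exact lt_mul_of_one_lt_right (Nat.pos_of_ne_zero W.index_ne_zero_of_finite) (W.one_lt_card_iff_ne_bot.2 hW0))
    (Γ ⧸ W) a (hX Γ a W hWp hXa) rfl (P.map f) (hP.map f) (by
      have := congrArg (Subgroup.map f) hq
      rwa [map_commutator, map_commutator, MonoidHom.map_zpowers, Subgroup.map_bot] at this)
  have h3 : (opMod q (centralizer (P.map f : Set _))).comap f ⊓ centralizer (W : Set Γ) ≤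
      opMod q (centralizer (P : Set Γ)) := by
    apply le_opMod_of_coprime
    intro x hx hc
    have h3 := mem_of_coprime_of_mem_opMod hx.1 (hc.coprime_dvd_left (orderOf_map_dvd f x))
    obtain ⟨k, hk⟩ := IsPGroup.iff_card.1 hP
    refine H01.le_centralizer_of_commutator_commutator_eq_bot (A := zpowers x) le_normalizer_of_normal
      (by rw [Nat.card_zpowers, hk]; exact hc.pow_right k) (Or.inr inferInstance) ?_ (mem_zpowers x)
    have e : ⁅P, zpowers x⁆ ≤ W := by
      rw [← QuotientGroup.ker_mk' W, ← Subgroup.map_eq_bot_iff, map_commutator, MonoidHom.map_zpowers,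
        commutator_comm, commutator_eq_bot_iff_le_centralizer, zpowers_le]
      exact h3
    refine eq_bot_iff.2 ((commutator_mono e le_rfl).trans ?_)
    rw [le_bot_iff, commutator_comm, commutator_eq_bot_iff_le_centralizer, zpowers_le]
    exact hx.2
  exact h3 ⟨h2, h1⟩

theorem Hyp.stable {Γ : Type u} [Group Γ] [Finite Γ] {G A : Subgroup Γ} (h : Hyp p G A) (h5 : 5 ≤ p) :
    WeaklyStable p Γ := fun E _ hE B _ hq a ha =>
  stable_aux (fun Γ _ _ => ∃ G A : Subgroup Γ, Hyp p G A)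
    (fun _ _ _ _ N _ _ ⟨_, _, h⟩ => ⟨_, _, h.map (QuotientGroup.mk'_surjective N)⟩)
    (fun _ _ _ _ ⟨_, _, h⟩ _ _ _ _ ρ hU hq => h.lin h5 ρ hU hq) _ Γ a ⟨G, A, h⟩ rfl E hE
    (eq_bot_iff.2 ((commutator_mono (commutator_mono le_rfl (zpowers_le.2 ha)) (zpowers_le.2 ha)).trans hq.le))

theorem zj_core {G Γ : Type*} [Group G] [Group Γ] [Finite Γ] {j : G →* Γ} (hj : Function.Injective j) {A : Subgroup Γ}
    (h : Hyp p j.range A) (h5 : 5 ≤ p) (hc : centralizer (pCore p G : Set G) ≤ pCore p G) (S : Sylow p G) :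
    (centerThompsonOf 0 (S : Subgroup G)).Normal := by
  have := h.nrm
  have : Finite G := Finite.of_injective j hj
  have hst := h.stable h5
  obtain ⟨T, hT⟩ := (S.isPGroup'.map j).exists_le_sylow
  have e1 : (T : Subgroup Γ) = (S : Subgroup G).map j := by
    have h1 : (T : Subgroup Γ) ≤ j.range := fun x hx => by
      obtain ⟨n, h1, h2⟩ := h.pow x
      obtain ⟨k, hk⟩ := T.isPGroup' ⟨x, hx⟩
      exact mem_of_pow (h1.pow_right k) (congrArg Subtype.val hk) h2
    rw [← S.3 (T.isPGroup'.comap_of_injective j hj) (map_le_iff_le_comap.1 hT), map_comap_eq_self h1]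
  have := normal_map_char hj (pCore p G)
  have hB := (H02.pCore_isPGroup p G).map j
  have h1 := centerThompsonOf_inf_normal (by omega) (Or.inl rfl) hst T _ hB
  have hZ := centerThompsonOf_le 0 (S : Subgroup G)
  have h2 : centerThompsonOf 0 (S : Subgroup G) ≤ pCore p G := by
    have h3 := hst _ hB _ ((S.isPGroup'.to_le hZ).map j) (by
      rw [← map_commutator, ← map_commutator, quad_of_abelian_normalized (centerThompsonOf_comm 0 _)
        ((H02.pCore_le_sylow S).trans (le_normalizer.trans (normalizer_le_normalizer_centerThompsonOf 0 _))),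
        Subgroup.map_bot])
    refine (map_le_iff_le_comap.1 h3).trans ?_
    refine (le_opMod fun x hx => ?_).trans (opMod_eq_pCore ((H02.pCore_isPGroup p G).to_le hc)).le
    obtain ⟨k, hk⟩ := exists_pow_mem_of_mem_opMod hx
    exact ⟨k, fun y hy => hj (by rw [map_mul, map_mul, map_pow]; exact hk _ ⟨y, hy, rfl⟩)⟩
  rw [e1, centerThompsonOf_map _ hj.injOn, inf_eq_left.2 (map_mono h2)] at h1
  have := h1.comap j
  rwa [comap_map_eq_self_of_injective hj] at this

end Cfsg.Agent.H26.Cq
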