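import Mathlib
import Cfsg.Agent.H26.Cq3

/-!
Quadratic modules over the prime field, III: unipotent groups, the groups `UU`, equivariant partners (`partner_eq`),
degrees for the torus element `NP.hh`, and the top weight space (`smith`).
-/

set_option autoImplicit false
set_option linter.unusedSectionVars false

namespace Cfsg.Agent.H26.Cq

open Cfsg Polynomial H12 H12.Q Subgroup
open scoped MatrixGroups commutatorElement

section alg
variable {k A : Type*} [Field k] [Ring A] [Algebra k A] {α β x y : A} {l c : k}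

/-- the torus element -/
def hv (l : k) (α β : A) : A := 1 + (l - 1) • (α * β) + (l⁻¹ - 1) • (β * α)

variable (hα : α * α = 0) (hβ : β * β = 0) (n1 : α * β * α = α) (n2 : β * α * β = β)
include hα hβ n1 n2

theorem hv_facts : hv l α β * α = l • α ∧ α * hv l α β = l⁻¹ • α ∧ hv l α β * β = l⁻¹ • β ∧ β * hv l α β = l • β := by
  unfold hv
  refine ⟨?_, ?_, ?_, ?_⟩
  · rw [add_mul, add_mul, smul_mul_assoc, smul_mul_assoc, mul_assoc β, hα, n1]; simp [sub_smul]
  · rw [mul_add, mul_add, mul_smul_comm, mul_smul_comm, ← mul_assoc, ← mul_assoc, hα, n1]; simp [sub_smul]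
  · rw [add_mul, add_mul, smul_mul_assoc, smul_mul_assoc, mul_assoc α, hβ, n2]; simp [sub_smul]
  · rw [mul_add, mul_add, mul_smul_comm, mul_smul_comm, ← mul_assoc, ← mul_assoc, hβ, n2]; simp [sub_smul]

theorem hv_m : hv l α β * (1 - α * β - β * α) = 1 - α * β - β * α ∧
    (1 - α * β - β * α) * hv l α β = 1 - α * β - β * α := by
  have a1 : α * (1 - α * β - β * α) = 0 := by rw [mul_sub, mul_sub, ← mul_assoc, ← mul_assoc, hα, n1]; simp
  have a2 : β * (1 - α * β - β * α) = 0 := by rw [mul_sub, mul_sub, ← mul_assoc, ← mul_assoc, hβ, n2]; simp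
  have a3 : (1 - α * β - β * α) * α = 0 := by rw [sub_mul, sub_mul, mul_assoc β, hα, n1]; simp
  have a4 : (1 - α * β - β * α) * β = 0 := by rw [sub_mul, sub_mul, mul_assoc α, hβ, n2]; simp
  unfold hv
  constructor
  · rw [add_mul, add_mul, smul_mul_assoc, smul_mul_assoc, mul_assoc, mul_assoc, a1, a2]; simp
  · rw [mul_add, mul_add, mul_smul_comm, mul_smul_comm, ← mul_assoc, ← mul_assoc, a3, a4]; simp

theorem hv_right (h : y * hv l α β = c • y) :
    (c ≠ l → y * α = 0) ∧ (c ≠ l⁻¹ → y * β = 0) ∧ (c ≠ 1 → y * (1 - α * β - β * α) = 0) := by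
  obtain ⟨f1, -, f3, -⟩ := hv_facts (l := l) hα hβ n1 n2
  have key : ∀ {z : A} {d : k}, hv l α β * z = d • z → c ≠ d → y * z = 0 := fun {z d} e hne => by
    have : (c - d) • (y * z) = 0 := by
      rw [sub_smul, ← smul_mul_assoc, ← h, mul_assoc, e, mul_smul_comm, sub_self]
    exact (smul_eq_zero.1 this).resolve_left (sub_ne_zero.2 hne)
  exact ⟨key f1, key f3, key (by rw [one_smul]; exact (hv_m hα hβ n1 n2).1)⟩

theorem hv_left (h : hv l α β * y = c • y) :
    (c ≠ l⁻¹ → α * y = 0) ∧ (c ≠ l → β * y = 0) ∧ (c ≠ 1 → (1 - α * β - β * α) * y = 0) := by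
  obtain ⟨-, f1, -, f3⟩ := hv_facts (l := l) hα hβ n1 n2
  have key : ∀ {z : A} {d : k}, z * hv l α β = d • z → c ≠ d → z * y = 0 := fun {z d} e hne => by
    have : (c - d) • (z * y) = 0 := by
      rw [sub_smul, ← mul_smul_comm, ← h, ← mul_assoc, e, smul_mul_assoc, sub_self]
    exact (smul_eq_zero.1 this).resolve_left (sub_ne_zero.2 hne)
  exact ⟨key f1, key f3, key (by rw [one_smul]; exact (hv_m hα hβ n1 n2).2)⟩

theorem zero_of_right (h1 : y * α = 0) (h2 : y * β = 0) (h3 : y * (1 - α * β - β * α) = 0) : y = 0 := by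
  rwa [mul_sub, mul_sub, ← mul_assoc, ← mul_assoc, h1, h2, zero_mul, zero_mul, sub_zero, sub_zero, mul_one] at h3

theorem zero_of_left (h1 : α * y = 0) (h2 : β * y = 0) (h3 : (1 - α * β - β * α) * y = 0) : y = 0 := by
  rwa [sub_mul, sub_mul, mul_assoc, mul_assoc, h1, h2, mul_zero, mul_zero, sub_zero, sub_zero, one_mul] at h3

variable (l0 : l ≠ 0) (l2 : l * l ≠ 1)
include l0 l2

/-- commuting with the torus element means degree zero -/
theorem deg0 (h : x * hv l α β = hv l α β * x) : x * (α * β) = α * β * x ∧ x * (β * α) = β * α * x := by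
  have l1 : l ≠ 1 := fun e => l2 (by rw [e, one_mul])
  have l1' : l⁻¹ ≠ 1 := fun e => l1 (inv_eq_one.1 e)
  have l3 : l ≠ l⁻¹ := fun e => l2 (by nth_rewrite 2 [e]; exact mul_inv_cancel₀ l0)
  obtain ⟨f1, f2, f3, f4⟩ := hv_facts (l := l) hα hβ n1 n2
  have a := hv_left hα hβ n1 n2 (y := x * α) (c := l) (by rw [← mul_assoc, ← h, mul_assoc, f1, mul_smul_comm])
  have b := hv_left hα hβ n1 n2 (y := x * β) (c := l⁻¹) (by rw [← mul_assoc, ← h, mul_assoc, f3, mul_smul_comm])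
  have c := hv_right hα hβ n1 n2 (y := α * x) (c := l⁻¹) (by rw [mul_assoc, h, ← mul_assoc, f2, smul_mul_assoc])
  have d := hv_right hα hβ n1 n2 (y := β * x) (c := l) (by rw [mul_assoc, h, ← mul_assoc, f4, smul_mul_assoc])
  have a1 := a.2.2 l1
  have b1 := b.2.2 l1'
  have c1 := c.2.2 l1'
  have d1 := d.2.2 l1
  rw [sub_mul, sub_mul, mul_assoc β, a.1 l3, mul_zero, sub_zero, one_mul, sub_eq_zero] at a1
  rw [sub_mul, sub_mul, mul_assoc α, b.2.1 l3.symm, mul_zero, sub_zero, one_mul, sub_eq_zero] at b1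
  rw [mul_sub, mul_sub, ← mul_assoc _ α, c.1 l3.symm, zero_mul, sub_zero, mul_one, sub_eq_zero] at c1
  rw [mul_sub, mul_sub, ← mul_assoc _ β, d.2.1 l3, zero_mul, sub_zero, mul_one, sub_eq_zero] at d1
  constructor
  · rw [← mul_assoc, a1, mul_assoc α β x, d1]; simp only [mul_assoc]
  · rw [← mul_assoc, b1, mul_assoc β α x, c1]; simp only [mul_assoc]

/-- eigenvalue `l` means degree one -/
theorem deg1 (l3 : l * l * l ≠ 1) (h : hv l α β * x = l • (x * hv l α β)) :
    α * x = 0 ∧ x * α = 0 ∧ (1 - α * β) * x * (1 - β * α) = 0 := by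
  have l1 : l ≠ 1 := fun e => l2 (by rw [e, one_mul])
  have i2 : l ≠ l⁻¹ := fun e => l2 (by nth_rewrite 2 [e]; exact mul_inv_cancel₀ l0)
  obtain ⟨f1, f2, f3, f4⟩ := hv_facts (l := l) hα hβ n1 n2
  have a := hv_right hα hβ n1 n2 (y := α * x) (c := l⁻¹ * l⁻¹) (by
    have := congrArg (fun z => l⁻¹ • (α * z)) h
    simp only [← mul_assoc, f2, smul_mul_assoc, mul_smul_comm, smul_smul, inv_mul_cancel₀ l0, one_smul] at this
    exact this.symm)
  have b := hv_left hα hβ n1 n2 (y := x * α) (c := l * l) (by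
    rw [← mul_assoc, h, smul_mul_assoc, mul_assoc, f1, mul_smul_comm, smul_smul])
  have a0 : α * x = 0 := zero_of_right hα hβ n1 n2
    (a.1 fun e => l3 (by field_simp at e; linear_combination -e))
    (a.2.1 fun e => l1 (by field_simp at e; exact e.symm)) (a.2.2 fun e => l2 (by field_simp at e; linear_combination -e))
  have b0 : x * α = 0 := zero_of_left hα hβ n1 n2 (b.1 fun e => l3 (by rw [e]; exact inv_mul_cancel₀ l0))
    (b.2.1 fun e => l1 (mul_left_cancel₀ l0 (e.trans (mul_one l).symm))) (b.2.2 l2)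
  have c := hv_left hα hβ n1 n2 (y := x * (1 - α * β - β * α)) (c := l) (by
    rw [← mul_assoc, h, smul_mul_assoc, mul_assoc, (hv_m hα hβ n1 n2).1])
  refine ⟨a0, b0, ?_⟩
  have : (1 - α * β) * x * (1 - β * α) = (1 - α * β - β * α) * (x * (1 - α * β - β * α)) + β * (α * x) * (1 - β * α) +
      (1 - α * β - β * α) * (x * α) * β := by noncomm_ring
  rw [this, c.2.2 l1, a0, b0]; simp

omit l2 hβ n2 in
theorem deg1' (h1 : α * x = 0) (h2 : x * α = 0) (h3 : (1 - α * β) * x * (1 - β * α) = 0) (h4 : β * x * β = 0) :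
    hv l α β * x = l • (x * hv l α β) := by
  have e : x = α * β * x + x * (β * α) := by
    have : (1 - α * β) * x * (1 - β * α) = x - α * β * x - x * (β * α) + α * (β * x * β) * α := by noncomm_ring
    rw [this, h4] at h3
    rw [← sub_eq_zero, ← h3]; simp; abel
  unfold hv
  rw [add_mul, add_mul, mul_add, mul_add, smul_mul_assoc, smul_mul_assoc, mul_smul_comm, mul_smul_comm, mul_assoc β α, h1,
    ← mul_assoc x α, h2]
  simp only [one_mul, mul_one, mul_zero, zero_mul, smul_zero, add_zero, smul_add, smul_smul, mul_sub, mul_inv_cancel₀ l0]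
  generalize α * β * x = s at *
  generalize x * (β * α) = t at *
  rw [e]; module

end alg

section
variable {k : Type*} [Field k] {M : Type*} [AddCommGroup M] [Module k M] [FiniteDimensional k M]
variable {G : Subgroup (GLM k M)} {α β γ δ ε ν x : Module.End k M} {l : k}

/-- the unipotent radical attached to `α` -/
def UU (G : Subgroup (GLM k M)) (α : Module.End k M) : Subgroup (GLM k M) :=
  G0 G ⊓ Unip.algGrp _ (flagJ_mul (LinearMap.ker α) (LinearMap.range α))

theorem flag_of (n1 : α * β * α = α) (h1 : α * ν = 0) (h2 : ν * α = 0) (h3 : (1 - α * β) * ν * (1 - β * α) = 0) :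
    ν ∈ flagJ (LinearMap.ker α) (LinearMap.range α) := by
  refine ⟨fun v => LinearMap.congr_fun h1 v, fun v hv => ?_, ?_⟩
  · have := LinearMap.congr_fun h3 v
    simp only [Module.End.mul_apply, LinearMap.sub_apply, Module.End.one_apply, LinearMap.mem_ker.1 hv, map_zero, sub_zero,
      LinearMap.zero_apply, sub_eq_zero] at this
    exact ⟨_, this.symm⟩
  · rintro _ ⟨v, rfl⟩; exact LinearMap.congr_fun h2 v

theorem UU_norm {g : GLM k M} (hg : g ∈ G) {c : k} (hc : c ≠ 0) (e : (g : Module.End k M) * α = c • (α * g))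
    {u : GLM k M} (hu : u ∈ UU G α) : g * u * g⁻¹ ∈ UU G α := by
  refine ⟨G0_normal hg hu.1, ?_⟩
  change _ ∈ flagJ _ _
  rw [conj_sub]
  have a1 : ∀ v, g.1 (α v) = c • α (g.1 v) := fun v => LinearMap.congr_fun e v
  have a0 : ∀ v, g.1 ((g⁻¹ : GLM k M).1 v) = v := fun v => by rw [← Module.End.mul_apply]; simp
  have a0' : ∀ v, (g⁻¹ : GLM k M).1 (g.1 v) = v := fun v => by rw [← Module.End.mul_apply]; simp
  obtain ⟨f1, f2, f3⟩ := hu.2
  refine ⟨fun v => ?_, fun v hv => ?_, ?_⟩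
  · have := a1 ((u.1 - 1) ((g⁻¹ : GLM k M).1 v))
    rw [LinearMap.mem_ker.1 (f1 _), map_zero] at this
    exact (smul_eq_zero.1 this.symm).resolve_left hc
  · obtain ⟨w, hw⟩ := f2 ((g⁻¹ : GLM k M).1 v) (by
      have := a1 ((g⁻¹ : GLM k M).1 v)
      rw [a0, LinearMap.mem_ker.1 hv, smul_zero] at this
      rw [LinearMap.mem_ker, ← a0' (α _), this, map_zero])
    rw [Module.End.mul_apply, Module.End.mul_apply, ← hw, a1]
    exact Submodule.smul_mem _ _ ⟨_, rfl⟩
  · rintro _ ⟨v, rfl⟩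
    have : (g⁻¹ : GLM k M).1 (α v) = c⁻¹ • α ((g⁻¹ : GLM k M).1 v) := by
      rw [← a0' (α ((g⁻¹ : GLM k M).1 v)), a1, a0, map_smul, smul_smul, inv_mul_cancel₀ hc, one_smul]
    rw [Module.End.mul_apply, Module.End.mul_apply, this, map_smul, f3 _ ⟨_, rfl⟩, smul_zero, map_zero]

/-- the diagonal matrix -/
def dg (l : k) (l0 : l ≠ 0) : SL(2, k) := ⟨!![l, 0; 0, l⁻¹], by simp [Matrix.det_fin_two, l0]⟩

theorem NP.hh_val (h : NP G α β) (l0 : l ≠ 0) : (h.sl (dg l l0) : Module.End k M) = hv l α β := by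
  rw [h.sl_val]; simp [dg, hv, sub_smul]; abel

theorem NP.partner_conj' [Finite k] (hk2 : ringChar k ≠ 2) (hk3 : Nat.card k ≠ 3) (h : NP G α β) (h' : NP G α γ) :
    ∃ u ∈ UU G α, (u : Module.End k M) * α * (u⁻¹ : GLM k M) = α ∧
      (u : Module.End k M) * β * (u⁻¹ : GLM k M) = γ := by
  have : Finite M := Module.finite_of_finite k
  have : Finite (Module.End k M) := Finite.of_injective _ DFunLike.coe_injective
  obtain ⟨l, hl0, hl⟩ := exists_sq_ne_one hk2 hk3
  have ha : l - 1 ≠ 0 := fun e => hl (by rw [sub_eq_zero.1 e, one_mul])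
  have hb : l⁻¹ - 1 ≠ 0 := fun e => hl (by rw [inv_eq_one.1 (sub_eq_zero.1 e), one_mul])
  have hab : l - 1 ≠ l⁻¹ - 1 := fun e => hl (by nth_rewrite 2 [sub_left_injective e]; exact mul_inv_cancel₀ hl0)
  have hα := h.ma.inL.1
  obtain ⟨f1, f2, -, -⟩ := hv_facts (l := l) hα h.mb.inL.1 h.n1 h.n2
  obtain ⟨g1, g2, -, -⟩ := hv_facts (l := l) hα h'.mb.inL.1 h'.n1 h'.n2
  set D := dg l hl0
  have hU : ∀ u ∈ UU G α, h.sl D * u * (h.sl D)⁻¹ ∈ UU G α := fun u hu =>
    UU_norm (G0_le (h.sl_mem D)) (mul_ne_zero hl0 hl0) (by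
      rw [h.hh_val, f1, f2, smul_smul, mul_assoc, mul_inv_cancel₀ hl0, mul_one]) hu
  let f : UU G α → UU G α := fun u => ⟨(h.sl D)⁻¹ * u.1 * h.sl D * u.1⁻¹, mul_mem (by
    have := UU_norm (inv_mem (G0_le (h.sl_mem D))) (c := l⁻¹ * l⁻¹) (by simp [hl0]) (by
      rw [Units.inv_mul_eq_iff_eq_mul, mul_smul_comm, ← mul_assoc, h.hh_val, f1, smul_mul_assoc, smul_smul, mul_assoc,
        inv_mul_cancel₀ hl0, mul_one, ← smul_mul_assoc, ← f2, ← h.hh_val hl0]; simp [D]) u.2
    rwa [inv_inv] at this) (inv_mem u.2)⟩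
  have hf : Function.Injective f := by
    intro u u' e
    have e1 : (u'⁻¹ * u : UU G α).1 * h.sl D = h.sl D * (u'⁻¹ * u : UU G α).1 := by
      have := congrArg Subtype.val e
      simp only [f] at this
      rw [Subgroup.coe_mul, Subgroup.coe_inv, show u'.1⁻¹ * u.1 * h.sl D =
        u'.1⁻¹ * h.sl D * ((h.sl D)⁻¹ * u.1 * h.sl D * u.1⁻¹) * u.1 by group, this]
      group
    obtain ⟨f1, f2, f3⟩ := flag_eqs h.n1 (u'⁻¹ * u : UU G α).2.2
    have := alg_cent ha hb hab h.n1 f1 f2 f3 (by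
      rw [← hv, ← h.hh_val hl0, sub_mul, mul_sub, ← Units.val_mul, e1]; simp [D])
    rw [sub_eq_zero, Units.val_eq_one, OneMemClass.coe_eq_one, inv_mul_eq_one] at this
    exact this.symm
  have hm : (h.sl D)⁻¹ * h'.sl D ∈ UU G α := ⟨(G0 G).mul_mem (inv_mem (h.sl_mem D)) (h'.sl_mem D), by
    change _ ∈ flagJ _ _
    have : (((h.sl D)⁻¹ * h'.sl D : GLM k M) : Module.End k M) - 1 =
        ((h.sl D)⁻¹ : GLM k M) * (hv l α γ - hv l α β) := by
      rw [Units.val_mul, ← Units.inv_mul (h.sl D), ← mul_sub, h.hh_val, h'.hh_val]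
    rw [this]
    refine (flag_mul (c := l) (d := l⁻¹) (flag_of h.n1 ?_ ?_ ?_) ?_ ?_).2
    · rw [mul_sub, f2, g2, sub_self]
    · rw [sub_mul, f1, g1, sub_self]
    · have e1 : α * (1 - β * α) = 0 := by rw [mul_sub, ← mul_assoc, h.n1, mul_one, sub_self]
      have e2 : (1 - α * β) * α = 0 := by rw [sub_mul, h.n1, one_mul, sub_self]
      have : hv l α γ - hv l α β = (l - 1) • (α * (γ - β)) + (l⁻¹ - 1) • ((γ - β) * α) := by
        unfold hv; rw [mul_sub, sub_mul, smul_sub, smul_sub]; abel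
      rw [this, mul_add, add_mul, mul_smul_comm, mul_smul_comm, smul_mul_assoc, smul_mul_assoc, ← mul_assoc _ α, e2,
        mul_assoc _ (_ * α), mul_assoc _ α, e1]; simp
    · rw [Units.mul_inv_eq_iff_eq_mul, smul_mul_assoc, h.hh_val, f2, smul_smul, mul_inv_cancel₀ hl0, one_smul]
    · rw [Units.inv_mul_eq_iff_eq_mul, mul_smul_comm, h.hh_val, f1, smul_smul, inv_mul_cancel₀ hl0, one_smul]⟩
  obtain ⟨u, hu⟩ := Finite.injective_iff_surjective.1 hf ⟨_, hm⟩
  have e1 : u.1 * h.sl D * u.1⁻¹ = h'.sl D := by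
    have := congrArg Subtype.val hu
    simp only [f] at this
    rw [← mul_right_inj (h.sl D)⁻¹, ← this]; group
  obtain ⟨f1, f2, -⟩ := flag_eqs h.n1 u.2.2
  have e2 : (u.1 : Module.End k M) * α * (u.1⁻¹ : GLM k M) = α := by
    rw [mul_sub, sub_eq_zero] at f1
    rw [sub_mul, sub_eq_zero] at f2
    rw [f2, one_mul, Units.mul_inv_eq_iff_eq_mul, f1, mul_one]
  refine ⟨u, u.2, e2, ?_⟩
  have hc := h.conj (G0_le u.2.1)
  rw [e2] at hc
  refine alg_det ha hb hab hc.mb.inL.1 h'.mb.inL.1 hc.n1 hc.n2 h'.n1 h'.n2 ?_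
  rw [← hv, ← hv, ← h'.hh_val hl0, ← e1, Units.val_mul, Units.val_mul, h.hh_val, hv, hv]
  generalize u.1 = w at e2 ⊢
  conv_lhs => rw [← e2]
  simp [mul_add, add_mul, mul_assoc]

end

section prime
variable {p : ℕ} [hp : Fact p.Prime] {M : Type*} [AddCommGroup M] [Module (ZMod p) M] [FiniteDimensional (ZMod p) M]
variable {G Q : Subgroup (GLM (ZMod p) M)} {α β γ δ ε η : Module.End (ZMod p) M}

instance finGL : Finite (GLM (ZMod p) M) :=
  have : Finite M := Module.finite_of_finite (ZMod p)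
  have : Finite (Module.End (ZMod p) M) := Finite.of_injective _ DFunLike.coe_injective
  inferInstance

theorem unip_of_pgroup (h : IsPGroup p Q) : IsUnipotentOn Q := by
  have : Finite M := Module.finite_of_finite (ZMod p)
  refine Unip.of_fixed fun W hW hne => ?_
  let ρ : Representation (ZMod p) Q (M ⧸ W) :=
    Representation.quotient ((Units.coeHom _).comp Q.subtype) W fun g v hv => hW g g.2 v hv
  let _ : MulAction Q (M ⧸ W) := MulAction.compHom _ ρ
  have : Nontrivial (M ⧸ W) := Submodule.Quotient.nontrivial_iff.2 hne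
  have : Finite (M ⧸ W) := Module.finite_of_finite (ZMod p)
  obtain ⟨b, hb, hb0⟩ := h.exists_fixed_point_of_prime_dvd_card_of_fixed_point (M ⧸ W) (by
    rw [Module.natCard_eq_pow_finrank (K := ZMod p), Nat.card_zmod]
    exact dvd_pow_self _ Module.finrank_pos.ne') (a := 0) (fun g => map_zero (ρ g))
  obtain ⟨v, rfl⟩ := W.mkQ_surjective b
  exact ⟨v, fun hv => hb0 ((Submodule.Quotient.mk_eq_zero W).2 hv).symm, fun g hg =>
    (Submodule.Quotient.eq W).1 (hb ⟨g, hg⟩)⟩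

theorem inL_un (h : γ * γ = 0) (hq : un γ h ∈ Q) : InL Q γ := by
  have := inL_of_mem hq (by rwa [un_sub])
  rwa [un_sub] at this

variable (h5 : 5 ≤ p)
include h5

theorem two_ne : (2 : ZMod p) ≠ 0 := Ring.two_ne_zero (zmod_facts h5).1

theorem nonopp (hQ : IsPGroup p Q) (hα : MinEl G α) (hγ : InL G γ) (h1 : InL Q α) (h2 : InL Q γ) : α * γ * α = 0 := by
  obtain ⟨n, hn⟩ := Unip.aug_pow (unip_of_pgroup hQ)
  have m1 := Unip.mem_aug h1.un_mem
  have m2 := Unip.mem_aug h2.un_mem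
  rw [un_sub] at m1 m2
  have := Submodule.pow_mem_pow _ (add_mem (Unip.aug_mul _ _ m1 _ m2) (Unip.aug_mul _ _ m2 _ m1)) n
  rw [hn, Submodule.mem_bot] at this
  rw [← z_mul_left hα.inL.1]
  exact nilp_case (two_ne h5) n hα hγ (by rw [this, zero_mul])

theorem nonopp' (hQ : IsPGroup p Q) (hα : MinEl G α) (hγ : InL G γ) (h1 : un α hα.inL.1 ∈ normalizer (Q : Set _))
    (h2 : InL Q γ) : α * γ * α = 0 :=
  nonopp h5 (Q := zpowers (un α hα.inL.1) ⊔ Q) (IsPGroup.to_sup_of_normal_right' (fun ⟨_, n, rfl⟩ => ⟨1, Subtype.ext (by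
      change (un α hα.inL.1 ^ n) ^ p ^ 1 = 1
      rw [pow_one, ← zpow_natCast, ← zpow_mul, mul_comm, zpow_mul, zpow_natCast, pow_p_eq (by rw [un_sub]; exact hα.inL.1),
        one_zpow])⟩) hQ (zpowers_le.2 h1)) hα hγ
    (inL_un hα.inL.1 (mem_sup_left (mem_zpowers _))) (h2.mono le_sup_right)

theorem clos (hγ : InL Q γ) (hη : η * η = 0) (hn : un η hη ∈ normalizer (Q : Set _)) (h : η * γ * η = 0) :
    InL Q (γ * η - η * γ) ∧ InL Q (γ * η * γ) := by
  have hg := hγ.1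
  have z : ∀ s t : ZMod p, (s • (γ * η - η * γ) - (s * s) • (γ * η * γ)) * (t • (γ * η - η * γ) - (t * t) • (γ * η * γ))
      = 0 := fun s t => by
    have e1 : (γ * η - η * γ) * (γ * η - η * γ) =
      γ * (η * γ * η) - γ * (η * η) * γ - η * (γ * γ) * η + η * γ * η * γ := by noncomm_ring
    have e2 : (γ * η - η * γ) * (γ * η * γ) = γ * (η * γ * η) * γ - η * (γ * γ) * η * γ := by noncomm_ring
    have e3 : γ * η * γ * (γ * η - η * γ) = γ * η * (γ * γ) * η - γ * (η * γ * η) * γ := by noncomm_ring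
    have e4 : γ * η * γ * (γ * η * γ) = γ * η * (γ * γ) * η * γ := by noncomm_ring
    simp only [sub_mul _ (_ • _), mul_sub (_ • _), smul_mul_smul_comm, e1, e2, e3, e4, h, hg, hη]
    simp
  have k : ∀ t : ZMod p, InL Q (t • (γ * η - η * γ) - (t * t) • (γ * η * γ)) := fun t => by
    refine inL_un (z t t) ?_
    have h1 := (hγ.smul t).un_mem
    have : un _ (z t t) = un _ (hγ.smul t).1 * (un η hη * (un _ (hγ.smul t).1)⁻¹ * (un η hη)⁻¹) := by
      ext1
      simp only [Units.val_mul, un_val, un_inv]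
      have : (1 + t • γ) * ((1 + η) * (1 - t • γ) * (1 - η)) = 1 + (t • (γ * η - η * γ) - (t * t) • (γ * η * γ)) +
        t • (η * γ * η) + (t * t) • (γ * (η * γ * η)) - η * η - t • (γ * (η * η)) - (t * t) • (γ * γ) +
        (t * t) • (γ * γ * η) := by
        simp only [mul_add, add_mul, mul_sub, sub_mul, smul_mul_assoc, mul_smul_comm, smul_smul, smul_sub, mul_assoc,
          one_mul, mul_one, smul_add]
        abel
      rw [this, h, hη, hg]; simp
    rw [this]
    exact mul_mem h1 ((mem_normalizer_iff.1 hn _).1 (inv_mem h1))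
  have a := ((k 1).sub (k (-1)) (z _ _) (z _ _)).smul (2 : ZMod p)⁻¹
  have b := ((k 1).add (k (-1)) (z _ _) (z _ _)).smul (-(2 : ZMod p)⁻¹)
  have h2 := two_ne h5
  constructor
  · convert a using 1
    rw [eq_inv_smul_iff₀ h2]; module
  · convert b using 1
    rw [← inv_neg, eq_inv_smul_iff₀ (neg_ne_zero.2 h2)]; module

theorem UU_pgroup : IsPGroup p (UU G α) := fun ⟨u, hu⟩ => ⟨1, Subtype.ext (Units.ext (by
  have h3 : (u.1 - 1) ^ 3 = 0 := by
    have := Submodule.pow_mem_pow (flagJ (LinearMap.ker α) (LinearMap.range α)) hu.2 3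
    rwa [flagJ_pow, Submodule.mem_bot] at this
  change ((u ^ p ^ 1 : GLM (ZMod p) M) : Module.End (ZMod p) M) = 1
  rcases subsingleton_or_nontrivial (Module.End (ZMod p) M) with _ | _
  · exact Subsingleton.elim _ _
  have : CharP (Module.End (ZMod p) M) p := charP_of_injective_algebraMap (algebraMap (ZMod p) _).injective p
  rw [pow_one, Units.val_pow_eq_pow_val, val_eq u, add_pow_char_of_commute _ (Commute.one_left _), one_pow,
    pow_eq_zero_of_le (by omega) h3, add_zero]))⟩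

theorem partner_eq (hU : NoU G) (hδ : MinEl G δ) {g : GLM (ZMod p) M} (hg : g ∈ G) (ho : (orderOf g).Coprime p)
    {c : ZMod p} (hc : c ≠ 0) (e : (g : Module.End (ZMod p) M) * δ = c • (δ * g)) :
    ∃ ζ, NP G δ ζ ∧ (g : Module.End (ZMod p) M) * ζ = c⁻¹ • (ζ * g) := by
  obtain ⟨k2, k3⟩ := zmod_facts h5
  obtain ⟨ζ, hζ⟩ := exists_np k2 k3 hU hδ
  have key : ∀ {ζ} {g : GLM (ZMod p) M} {c : ZMod p}, NP G δ ζ → g ∈ G → c ≠ 0 → g.1 * δ = c • (δ * g) →
      NP G δ (c • (g.1 * ζ * (g⁻¹ : GLM (ZMod p) M))) ∧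
      g.1 * (δ * ζ) * (g⁻¹ : GLM (ZMod p) M) = δ * (c • (g.1 * ζ * (g⁻¹ : GLM (ZMod p) M))) ∧
      g.1 * (ζ * δ) * (g⁻¹ : GLM (ZMod p) M) = (c • (g.1 * ζ * (g⁻¹ : GLM (ZMod p) M))) * δ := by
    intro ζ g c hζ hg hc e
    have h1 := hζ.conj hg
    have e' : g.1 * δ * (g⁻¹ : GLM (ZMod p) M) = c • δ := by rw [e]; simp
    rw [e'] at h1
    refine ⟨⟨hδ, h1.mb.of_le (h1.mb.inL.smul c) (smul_ne_zero hc h1.mb.ne) (by
      rw [← smul_one_mul]; exact rk_mul_le_right _ _), smul_right_injective _ hc ?_, ?_⟩, ?_, ?_⟩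
    · simpa [smul_smul, mul_comm] using h1.n1
    · have := congrArg (fun x => c • x) h1.n2
      simpa [smul_smul] using this
    · rw [mul_smul_comm, ← smul_mul_assoc, ← e']; simp [mul_assoc]
    · rw [smul_mul_assoc, ← mul_smul_comm, ← e']; simp [mul_assoc]
  have pw : ∀ a ∈ zpowers g, ∃ d : ZMod p, d ≠ 0 ∧ a.1 * δ = d • (δ * a) := by
    intro a ha
    obtain ⟨n, rfl⟩ := mem_powers_iff_mem_zpowers.2 ha
    refine ⟨c ^ n, pow_ne_zero _ hc, ?_⟩
    induction n with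
    | zero => simp
    | succ n ih =>
      simp only [pow_succ', Units.val_mul] at ih ⊢
      rw [mul_assoc, ih (mem_powers_iff_mem_zpowers.1 ⟨n, rfl⟩), mul_smul_comm, ← mul_assoc, e, smul_mul_assoc, smul_smul,
        mul_assoc, mul_comm c]
  obtain ⟨n, hn⟩ := IsPGroup.iff_card.1 (UU_pgroup h5 (G := G) (α := δ))
  have : Group.IsNilpotent (UU G δ) := (UU_pgroup h5).isNilpotent
  obtain ⟨u, hu, hfix⟩ := H01.glauberman_fixed (X := Pr (ZMod p) M) (A := zpowers g) (K := UU G δ)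
    (H01.le_normalizer_of_conj_mem fun a ha x hx => by
      obtain ⟨d, d0, e⟩ := pw a ha
      exact UU_norm (zpowers_le.2 hg ha) d0 e hx) (by rw [hn, Nat.card_zpowers]; exact ho.pow_right n)
    (Or.inr inferInstance) (δ * ζ, ζ * δ) (fun a ha => by
      obtain ⟨d, d0, e⟩ := pw a ha
      obtain ⟨a1, a2, a3⟩ := key hζ (zpowers_le.2 hg ha) d0 e
      obtain ⟨u, hu, u1, u2⟩ := hζ.partner_conj' k2 k3 a1
      refine ⟨u, hu, Prod.ext (a2.trans ?_) (a3.trans ?_)⟩
      · rw [← u2]; nth_rewrite 1 [← u1]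
        change _ = u.1 * (δ * ζ) * (u⁻¹ : GLM (ZMod p) M)
        simp [mul_assoc]
      · rw [← u2]; nth_rewrite 1 [← u1]
        change _ = u.1 * (ζ * δ) * (u⁻¹ : GLM (ZMod p) M)
        simp [mul_assoc])
  obtain ⟨f1, f2, -⟩ := flag_eqs hζ.n1 hu.2
  have e2 : u.1 * δ = (1 : ZMod p) • (δ * u) := by
    rw [mul_sub, sub_eq_zero] at f1
    rw [sub_mul, sub_eq_zero] at f2
    rw [f2, f1]; simp
  obtain ⟨a1, a2, a3⟩ := key hζ (G0_le hu.1) one_ne_zero e2
  rw [one_smul] at a1 a2 a3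
  set ζ' := u.1 * ζ * (u⁻¹ : GLM (ZMod p) M)
  obtain ⟨b1, b2, b3⟩ := key a1 hg hc e
  have c1 : g.1 * (u.1 * (δ * ζ) * (u⁻¹ : GLM (ZMod p) M)) * (g⁻¹ : GLM (ZMod p) M) =
    u.1 * (δ * ζ) * (u⁻¹ : GLM (ZMod p) M) := congrArg Prod.fst (hfix g (mem_zpowers g))
  have c2 : g.1 * (u.1 * (ζ * δ) * (u⁻¹ : GLM (ZMod p) M)) * (g⁻¹ : GLM (ZMod p) M) =
    u.1 * (ζ * δ) * (u⁻¹ : GLM (ZMod p) M) := congrArg Prod.snd (hfix g (mem_zpowers g))
  rw [a2, b2] at c1
  rw [a3, b3] at c2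
  refine ⟨ζ', a1, ?_⟩
  have : c • (g.1 * ζ' * (g⁻¹ : GLM (ZMod p) M)) = ζ' := by
    rw [← b1.n2, c2, mul_assoc, c1, ← mul_assoc, a1.n2]
  rw [eq_inv_smul_iff₀ hc]
  nth_rewrite 2 [← this]
  simp [mul_assoc]

theorem exists_l : ∃ l : ZMod p, l ≠ 0 ∧ l * l ≠ 1 ∧ l * l * l ≠ 1 := by
  have h2 := two_ne h5
  have h3 : (3 : ZMod p) ≠ 0 := fun e => by
    have := Nat.le_of_dvd (by norm_num) ((ZMod.natCast_eq_zero_iff 3 p).1 (by exact_mod_cast e))
    omega
  exact ⟨-2, neg_ne_zero.2 h2, fun e => h3 (by linear_combination e),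
    fun e => mul_ne_zero h3 h3 (by linear_combination -e)⟩

omit h5 in
theorem NP.hh_order (h : NP G α β) {l : ZMod p} (l0 : l ≠ 0) : (orderOf (h.sl (dg l l0))).Coprime p := by
  have e : ∀ n : ℕ, dg l l0 ^ n = dg (l ^ n) (pow_ne_zero n l0) := fun n => by
    induction n with
    | zero => rw [pow_zero]; exact Subtype.ext (by simp [dg, Matrix.one_fin_two])
    | succ n ih =>
      rw [pow_succ, ih]
      exact Subtype.ext (by rw [Matrix.SpecialLinearGroup.coe_mul]; simp [dg, pow_succ, mul_comm])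
  have : h.sl (dg l l0) ^ (p - 1) = 1 := by
    rw [← map_pow, e, ← map_one h.sl]; congr 1
    exact Subtype.ext (by simp [dg, ZMod.pow_card_sub_one_eq_one l0, Matrix.one_fin_two])
  refine Nat.Coprime.coprime_dvd_left (orderOf_dvd_of_pow_eq_one this) ?_
  have := hp.out.one_lt
  rw [Nat.coprime_self_sub_left (by omega)]; simp

theorem exists_t {V : Type*} [AddCommGroup V] [Module (ZMod p) V] {a b c : V} (ha : a ≠ 0) :
    ∃ t : ZMod p, t ≠ 0 ∧ a + t • b - (t * t) • c ≠ 0 := by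
  have h2 := two_ne h5
  have h3 : (3 : ZMod p) ≠ 0 := fun e => by
    have := Nat.le_of_dvd (by norm_num) ((ZMod.natCast_eq_zero_iff 3 p).1 (by exact_mod_cast e))
    omega
  by_contra hc
  push Not at hc
  have e1 := hc 1 one_ne_zero
  have e2 := hc (-1) (neg_ne_zero.2 one_ne_zero)
  have e3 := hc 2 h2
  have : (3 : ZMod p) • a = (3 : ZMod p) • (a + (1 : ZMod p) • b - ((1 : ZMod p) * 1) • c) +
    (a + (-1 : ZMod p) • b - ((-1 : ZMod p) * -1) • c) - (a + (2 : ZMod p) • b - ((2 : ZMod p) * 2) • c) := by module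
  rw [e1, e2, e3] at this
  exact ha ((smul_eq_zero.1 (by simpa using this)).resolve_left h3)

/-- the top weight space is irreducible for the normaliser of `E` -/
theorem smith {R : Subgroup (GLM (ZMod p) M)} (hirr : IsIrreducibleFor G) (hG : G ≤ G0 G ⊔ R) (hR : R ≤ G)
    (h : NP G α β) (hRβ : ∀ r ∈ R, (r : Module.End (ZMod p) M) * β = β * r) {W : Submodule (ZMod p) M}
    (hW : W ≤ LinearMap.range α) (hW0 : W ≠ ⊥) (hWR : Unip.Inv R W)
    (hWN : Unip.Inv (G0 G ⊓ normalizer (Esub G α : Set _)) W) : LinearMap.range α ≤ W := by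
  obtain ⟨k2, k3⟩ := zmod_facts h5
  let N : Submodule (ZMod p) M := Submodule.span _ {m | ∃ u ∈ UU G β, ∃ w ∈ W, m = u.1 w}
  have inv : ∀ x : Module.End (ZMod p) M, (∀ u ∈ UU G β, ∀ w ∈ W, x (u.1 w) ∈ N) → ∀ m ∈ N, x m ∈ N := fun x hx =>
    (Submodule.span_le (p := N.comap x)).2 (by rintro _ ⟨u, hu, w, hw, rfl⟩; exact hx u hu w hw)
  have big : ∀ g ∈ G0 G, β * (g.1 * α * (g⁻¹ : GLM (ZMod p) M)) * β ≠ 0 → ∀ w ∈ W, g.1 w ∈ N := by
    intro g hg hne w hw
    have hm := h.ma.conj (G0_le hg)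
    obtain ⟨a, i1, i2, i3, i4⟩ := (exists_norm k2 k3 h.mb hm.inL hne).1
    obtain ⟨v, hv, -, v2⟩ := h.symm.partner_conj' k2 k3 ⟨h.mb, i2, i3, i4⟩
    refine Submodule.subset_span ⟨v, hv, (v⁻¹ * g).1 w, hWN _ ⟨(G0 G).mul_mem ((G0 G).inv_mem hv.1) hg, ?_⟩ w hw, ?_⟩
    · change v⁻¹ * g ∈ normalizer _
      rw [← conjBy_eq_self_iff, conjBy_mul, Esub_conj h.ma.inL.1 (G0_le hg), ← Esub_eq hm i1 i2.ne, ← v2,
        ← Esub_conj h.ma.inL.1 (G0_le hv.1), conjBy_inv_conjBy]
    · rw [← Module.End.mul_apply, ← Units.val_mul, mul_inv_cancel_left]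
  have hN : ∀ g ∈ G, ∀ m ∈ N, g.1 m ∈ N := by
    let S : Subgroup (GLM (ZMod p) M) :=
      { carrier := {g | ∀ m ∈ N, g.1 m ∈ N}
        mul_mem' := fun ha hb m hm => ha _ (hb m hm)
        one_mem' := fun m hm => hm
        inv_mem' := fun {g} hg m hm => by
          have : ∀ n : ℕ, ∀ m ∈ N, (g ^ n).1 m ∈ N := fun n => by
            induction n with
            | zero => exact fun m hm => hm
            | succ n ih => exact fun m hm => by rw [pow_succ]; exact ih _ (hg m hm)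
          obtain ⟨n, hn⟩ := mem_powers_iff_mem_zpowers.2 (inv_mem (mem_zpowers g))
          exact hn ▸ this n m hm }
    refine fun g hg => (hG.trans (sup_le ((closure_le S).2 fun x hx => ?_) fun r hr => ?_)) hg
    · have hx' : MinEl G (x.1 - 1) := hx
      refine inv _ fun u hu w hw => ?_
      have ha := h.ma.conj (G0_le hu.1)
      set a := u.1 * α * (u⁻¹ : GLM (ZMod p) M) with ha'
      obtain ⟨f1, f2, -⟩ := flag_eqs h.n2 hu.2
      obtain ⟨g1, -, -⟩ := flag_eqs h.n2 (inv_mem hu).2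
      rw [mul_sub, sub_eq_zero, mul_one] at f1
      obtain ⟨-, g2, -⟩ := flag_eqs h.n2 (inv_mem hu).2
      rw [sub_mul, sub_eq_zero, one_mul] at g2
      obtain ⟨t, t0, ht⟩ := exists_t h5 (a := β * a * β) (b := β * ((x.1 - 1) * a - a * (x.1 - 1)) * β)
        (c := β * ((x.1 - 1) * a * (x.1 - 1)) * β) (by
          rw [ha', ← mul_assoc, ← mul_assoc, f1, mul_assoc, g2, h.n2]; exact h.mb.ne)
      have hs := hx'.inL.smul t
      have := big (un _ hs.1 * u) (mul_mem (Esub_le_G0 hx' (un_mem_Esub hx'.inL.1 ((InE.refl hx'.inL).smul t))) hu.1)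
        (by
          have : ((un _ hs.1 * u : GLM (ZMod p) M) : Module.End (ZMod p) M) * α * ((un _ hs.1 * u)⁻¹ : GLM (ZMod p) M) =
              (1 + t • (x.1 - 1)) * a * (1 - t • (x.1 - 1)) := by
            rw [mul_inv_rev, Units.val_mul, Units.val_mul, un_val, un_inv, ha']; simp only [mul_assoc]
          rw [this]
          convert ht using 1
          generalize x.1 - 1 = y
          simp only [mul_add, add_mul, mul_sub, sub_mul, smul_mul_assoc, mul_smul_comm, smul_smul, smul_sub, mul_assoc,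
            one_mul, mul_one]
          module) w hw
      have m0 : u.1 w ∈ N := Submodule.subset_span ⟨u, hu, w, hw, rfl⟩
      rw [Units.val_mul, un_val, Module.End.mul_apply, LinearMap.add_apply, Module.End.one_apply,
        add_mem_cancel_left m0, LinearMap.smul_apply, N.smul_mem_iff t0, LinearMap.sub_apply] at this
      simpa using add_mem this m0
    · refine inv _ fun u hu w hw => Submodule.subset_span ⟨_, UU_norm (hR hr) one_ne_zero (by
        rw [one_smul, hRβ r hr]) hu, _, hWR r hr w hw, ?_⟩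
      simp only [← Module.End.mul_apply, ← Units.val_mul, inv_mul_cancel_right]
  have hT := (hirr.2 N hN).resolve_left fun e => hW0 (eq_bot_iff.2 fun w hw =>
    e.le (Submodule.subset_span ⟨1, one_mem _, w, hw, rfl⟩))
  have : N ≤ W.comap (α * β) := Submodule.span_le.2 (by
    rintro _ ⟨u, hu, w, hw, rfl⟩
    obtain ⟨f1, -, -⟩ := flag_eqs h.n2 hu.2
    rw [mul_sub, sub_eq_zero, mul_one] at f1
    obtain ⟨v, rfl⟩ := hW hw
    change (α * β * u.1 * α) v ∈ W
    rwa [mul_assoc α, f1, h.n1])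
  rintro _ ⟨v, rfl⟩
  have := this (hT.ge (Submodule.mem_top (x := α v)))
  change (α * β * α) v ∈ W at this
  rwa [h.n1] at this

end prime

end Cfsg.Agent.H26.Cq
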