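import Mathlib
import Cfsg.Agent.H26.Cq4

/-!
Flavell's theorem B: the intersection `PP` of the `R`-invariant Sylow `p`-subgroups of `G` (`p ≥ 5`, `R` coprime) contains no
quadratic element outside `O_p(G)`: the irreducible step `St.main`.
-/

set_option autoImplicit false
set_option linter.unusedSectionVars false

namespace Cfsg.Agent.H26.Cq

open Cfsg Polynomial H12 H12.Q Subgroup
open scoped MatrixGroups commutatorElement

/-- the intersection of the `R`-invariant Sylow `p`-subgroups of `G` -/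
def PP (p : ℕ) {X : Type*} [Group X] (G R : Subgroup X) : Subgroup X :=
  ⨅ S ∈ {S | _root_.H26.IsSyl p S G ∧ R ≤ normalizer (S : Set X)}, S

/-- coprime action -/
structure Cp {X : Type*} [Group X] (G R : Subgroup X) : Prop where
  nrm : R ≤ normalizer (G : Set X)
  cop : (Nat.card R).Coprime (Nat.card G)

variable {p : ℕ} [hp : Fact p.Prime]

section pp
variable {X : Type*} [Group X] [Finite X] {G R H T : Subgroup X} {x : X}

theorem Cp.of_le (h : Cp G R) (hle : H ≤ G) (hn : R ≤ normalizer (H : Set X)) : Cp H R :=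
  ⟨hn, H01.coprime_of_le_right h.cop hle⟩

theorem Cp.map (h : Cp G R) {Y : Type*} [Group Y] (f : X →* Y) : Cp (G.map f) (R.map f) :=
  ⟨(map_mono h.nrm).trans (le_normalizer_map f), (h.cop.coprime_dvd_left (card_map_dvd _ _)).coprime_dvd_right
    (card_map_dvd _ _)⟩

theorem Cp.syl (h : Cp G R) (h1 : T ≤ G) (h2 : IsPGroup p T) (h3 : R ≤ normalizer (T : Set X)) :
    ∃ S, _root_.H26.IsSyl p S G ∧ R ≤ normalizer (S : Set X) ∧ T ≤ S ∧ PP p G R ≤ S := by
  obtain ⟨S, a, b, c, d, e⟩ := H01.exists_invariant_sylow_le h.nrm h.cop (solv_or h.cop dvd_rfl dvd_rfl) h1 h2 h3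
  have := _root_.H26.isSyl_of_not_dvd b c d
  exact ⟨S, this, e, a, iInf₂_le S ⟨this, e⟩⟩

theorem Cp.PP_le (h : Cp G R) : PP p G R ≤ G ∧ IsPGroup p (PP p G R) := by
  obtain ⟨S, a, -, -, b⟩ := h.syl (p := p) bot_le IsPGroup.of_bot (by rw [normalizer_eq_top]; exact le_top)
  exact ⟨b.trans a.le, a.pg.to_le b⟩

theorem mem_PP (hx : x ∈ G)
    (h : ∀ T ≤ G, IsPGroup p T → R ≤ normalizer (T : Set X) → IsPGroup p ↥(T ⊔ zpowers x)) : x ∈ PP p G R :=
  mem_iInf.2 fun S => mem_iInf.2 fun hS => (hS.1.max _ (h S hS.1.le hS.1.pg hS.2) le_sup_left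
    (sup_le hS.1.le (zpowers_le.2 hx))).le (mem_sup_right (mem_zpowers x))

theorem Cp.sup (h : Cp G R) (hx : x ∈ PP p G R) (h1 : T ≤ G) (h2 : IsPGroup p T) (h3 : R ≤ normalizer (T : Set X)) :
    IsPGroup p ↥(T ⊔ zpowers x) := by
  obtain ⟨S, a, -, b, c⟩ := h.syl h1 h2 h3
  exact a.pg.to_le (sup_le b (zpowers_le.2 (c hx)))

theorem Cp.mem_sub (h : Cp G R) (hx : x ∈ PP p G R) (hle : H ≤ G) (hH : x ∈ H) : x ∈ PP p H R :=
  mem_PP hH fun _ h1 => h.sup hx (h1.trans hle)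

theorem Cp.norm (h : Cp G R) : G ⊓ centralizer (R : Set X) ≤ normalizer (PP p G R : Set X) :=
  H01.le_normalizer_of_conj_mem fun c hc x hx => mem_PP (mul_mem (mul_mem hc.1 (h.PP_le.1 hx)) (inv_mem hc.1))
    fun T h1 h2 h3 => by
      have := (h.sup hx (T := conjBy T c⁻¹) (conjBy_le_of_le h1 (inv_mem hc.1)) (h2.map _)
        (H01.le_normalizer_of_conj_mem fun r hr y hy => by
          rw [mem_conjBy_inv] at hy ⊢
          have e := hc.2 r hr
          rw [show c * (r * y * r⁻¹) * c⁻¹ = (c * r) * y * (c * r)⁻¹ by group, ← e,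
            show r * c * y * (r * c)⁻¹ = r * (c * y * c⁻¹) * r⁻¹ by group]
          exact H01.conj_mem_of_le_normalizer h3 hr hy)).map (MulAut.conj c).toMonoidHom
      rwa [Subgroup.map_sup, MonoidHom.map_zpowers, show (conjBy T c⁻¹).map _ = T from conjBy_conjBy_inv T c] at this

theorem Cp.mem_map (h : Cp G R) (hx : x ∈ PP p G R) {Y : Type*} [Group Y] [Finite Y] (f : X →* Y) :
    f x ∈ PP p (G.map f) (R.map f) := by
  refine mem_PP ⟨x, h.PP_le.1 hx, rfl⟩ fun T h1 h2 h3 => ?_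
  obtain ⟨S, a, b, -⟩ := (h.of_le (inf_le_left : G ⊓ T.comap f ≤ G) (H01.le_normalizer_inf h.nrm
    (H01.le_normalizer_of_conj_mem fun r hr y hy => by
      rw [mem_comap, map_mul, map_mul, map_inv]
      exact H01.conj_mem_of_le_normalizer h3 ⟨r, hr, rfl⟩ hy))).syl (p := p) bot_le IsPGroup.of_bot
    (by rw [normalizer_eq_top]; exact le_top)
  have e : T = S.map f := by
    have := a.map f
    rw [show (G ⊓ T.comap f).map f = T from le_antisymm (map_le_iff_le_comap.2 inf_le_right) fun y hy => by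
      obtain ⟨z, hz, rfl⟩ := h1 hy
      exact ⟨z, ⟨hz, hy⟩, rfl⟩] at this
    exact this.max T h2 this.le le_rfl
  rw [e, ← MonoidHom.map_zpowers, ← Subgroup.map_sup]
  exact (h.sup hx (a.le.trans inf_le_left) a.pg b).map f

theorem Cp.pow_mem (h : Cp G R) (hx : x ∈ G ⊔ R) : x ^ Nat.card R ∈ G := by
  obtain ⟨g, hg, r, hr, rfl⟩ := (_root_.H26.mem_sup_of_le_normalizer' h.nrm).1 hx
  have : ∀ n : ℕ, (g * r) ^ n * (r ^ n)⁻¹ ∈ G := fun n => by
    induction n with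
    | zero => simp
    | succ n ih =>
      rw [show (g * r) ^ (n + 1) * (r ^ (n + 1))⁻¹ = g * (r * ((g * r) ^ n * (r ^ n)⁻¹) * r⁻¹) by
        rw [pow_succ', pow_succ']; group]
      exact mul_mem hg (H01.conj_mem_of_le_normalizer h.nrm hr ih)
  have e : r ^ Nat.card R = 1 := congrArg Subtype.val (pow_card_eq_one' (x := (⟨r, hr⟩ : R)))
  simpa [e] using this (Nat.card R)

theorem zpowers_pgroup (h : x ^ p = 1) : IsPGroup p (zpowers x) := fun ⟨_, n, rfl⟩ => ⟨1, Subtype.ext (by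
  change (x ^ n) ^ p ^ 1 = 1
  rw [pow_one, ← zpow_natCast, ← zpow_mul, mul_comm, zpow_mul, zpow_natCast, h, one_zpow])⟩

end pp

section split
variable {k : Type*} [Field k] {M : Type*} [AddCommGroup M] [Module k M] [FiniteDimensional k M]
variable {G : Subgroup (GLM k M)} {α β γ : Module.End k M} (hk2 : ringChar k ≠ 2) (hk3 : Nat.card k ≠ 3)

theorem NP.not_comm (h : NP G α β) : α * β ≠ β * α := fun e => h.ma.ne (by
  rw [← h.n1, e, mul_assoc, h.ma.inL.1, mul_zero])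

theorem comm_of_un (hα : α * α = 0) (hβ : β * β = 0) (h : un α hα * un β hβ = un β hβ * un α hα) : α * β = β * α := by
  have := (un_comm_iff hβ _).1 h
  rw [un_val, mul_add, add_mul, mul_one, one_mul, add_right_inj] at this
  exact this.symm

theorem NP.norm_E (h : NP G α β) {g : GLM k M} (hg : g ∈ G) (h1 : g.1 * (α * β) = α * β * g.1)
    (h2 : g.1 * (β * α) = β * α * g.1) : g ∈ normalizer (Esub G α : Set _) := by
  have hm := h.ma.conj hg
  rw [← conjBy_eq_self_iff, Esub_conj h.ma.inL.1 hg]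
  refine Esub_eq h.ma (InE.of_mul hm.inL (φ := β * (g.1 * α * (g⁻¹ : GLM k M))) (ψ := g.1 * α * (g⁻¹ : GLM k M) * β)
    ?_ ?_) hm.ne
  · rw [← mul_assoc, ← mul_assoc, ← mul_assoc, ← h1, mul_assoc g.1 _ α, h.n1]
  · have : ((g⁻¹ : GLM k M) : Module.End k M) * (β * α) = β * α * (g⁻¹ : GLM k M) := by
      rw [Units.inv_mul_eq_iff_eq_mul, ← mul_assoc, h2]; simp
    rw [mul_assoc _ β, mul_assoc _ _ (β * α), this, ← mul_assoc, mul_assoc g.1 α (β * α), ← mul_assoc α, h.n1]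

theorem inv_range (hα : InL G α) : Unip.Inv (normalizer (Esub G α : Set _)) (LinearMap.range α) := by
  rintro g hg _ ⟨v, rfl⟩
  have := ((mem_Esub hα.1).1 ((mem_normalizer_iff.1 hg _).1 (un_mem_Esub hα.1 (InE.refl hα)))).rng
    ⟨(g : Module.End k M) v, rfl⟩
  rwa [conj_sub, un_sub, ← Module.End.mul_apply, Units.inv_mul_cancel_right] at this

theorem NP.not_norm (h : NP G α β) : un β h.mb.inL.1 ∉ normalizer (Esub G α : Set _) := fun hn => by
  have := ((mem_Esub h.ma.inL.1).1 ((mem_normalizer_iff.1 hn _).1 (un_mem_Esub h.ma.inL.1 (InE.refl h.ma.inL)))).right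
    h.ma.inL.1
  rw [conj_sub, un_sub, un_val, un_inv] at this
  have e : α * β * ((1 + β) * α * (1 - β) * α) = α * β * (α * α) + α * (β * β) * α * (1 - β) * α -
    α * β * α * β * α := by noncomm_ring
  rw [this, h.ma.inL.1, h.mb.inL.1, h.n1, h.n1] at e
  exact h.ma.ne (by simpa using e)

include hk2 hk3

theorem exists_split (hα : MinEl G α) (hβ : InL G β) (h : α * β * α ≠ 0) :
    ∃ β₁, MinEl G β₁ ∧ InE G β β₁ ∧ rk (β - β₁) < rk β := by
  obtain ⟨g, r, -, -, h3, ⟨q, hq⟩, -, h5⟩ := exists_inv_poly hk2 hk3 hα hβ h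
  have hc := z_comm (β := β) hα.inL.1
  have hc' := z_comm' (α := α) hβ.1
  set z := α * β + β * α with hz
  have za : α * β * α = aeval z (X : k[X]) * α := by rw [aeval_X, z_mul_left hα.inL.1]
  have zb : β * α * β = aeval z (X : k[X]) * β := by rw [aeval_X, z_mul_right hβ.1]
  have ga : ∀ p : k[X], aeval z (p * g) * α = 0 := fun p => by rw [map_mul, mul_assoc _ _ α, h3, mul_zero]
  have gb : ∀ p : k[X], aeval z (p * g * X) * β = 0 := fun p => by
    rw [map_mul, mul_assoc _ _ β, ← zb, ← mul_assoc, ← mul_assoc, commute_aeval hc', mul_assoc β, ga]; simp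
  have aba : ∀ p : k[X], α * (aeval z p * β) * α = aeval z (p * X) * α := fun p => by
    rw [← mul_assoc, ← commute_aeval hc, mul_assoc, mul_assoc, ← mul_assoc α, za, map_mul, mul_assoc]
  have inE : ∀ p : k[X], InE G β (aeval z (p * X) * β) := fun p => InE.of_mul (h5 p) (commute_aeval hc' _) rfl
  have rkle : ∀ p : k[X], rk (aeval z (p * X) * β) ≤ rk α := fun p => by
    rw [map_mul, mul_assoc _ _ β, ← zb]
    exact (rk_mul_le_right _ _).trans ((rk_mul_le_left _ _).trans (rk_mul_le_right _ _))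
  have e1 : α * (aeval z (r * X) * β) * α = α * β * α := by
    rw [aba, za, show r * X * X = X + (X * q) * g by linear_combination X * hq, map_add, add_mul, ga, add_zero]
  refine ⟨_, hα.of_le (h5 r) (fun e => h (by rw [← e1, e]; simp)) (rkle _), inE r, ?_⟩
  have e2 : β - aeval z (r * X) * β = aeval z (1 - r * X) * β := by simp [sub_mul]
  obtain ⟨v, hv⟩ : ∃ v, (β * α * β) v ≠ 0 := by
    by_contra hc; push Not at hc
    refine h (case1_symm hk2 hk3 hβ hα (LinearMap.ext hc))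
  rw [e2]
  refine rk_mul_lt (v := (α * β) v) (by simpa using hv) ?_
  have : aeval z (1 - r * X) * (β * α * β) = 0 := by
    rw [zb, ← mul_assoc, ← map_mul, show (1 - r * X) * X = (-q) * g * X by linear_combination (-X) * hq, gb]
  simpa using LinearMap.congr_fun this v

end split

variable {M : Type*} [AddCommGroup M] [Module (ZMod p) M] [FiniteDimensional (ZMod p) M]
variable {G R K : Subgroup (GLM (ZMod p) M)} {α β γ δ : Module.End (ZMod p) M} {l : ZMod p}

theorem split_cls (h5 : 5 ≤ p) (hU : NoU G) {E : Subgroup (GLM (ZMod p) M)} (hE : E ∈ quadraticRootSubgroups G) (n : ℕ) :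
    ∀ {γ}, InL G γ → rk γ = n → ∃ γ₁ γ₂, InE G γ γ₁ ∧ InE G γ γ₂ ∧ γ = γ₁ + γ₂ ∧ InL (⨆ C ∈ Cls G E, C) γ₁ ∧
      InL (centralizer ((⨆ C ∈ Cls G E, C : Subgroup _) : Set _)) γ₂ := by
  obtain ⟨k2, k3⟩ := zmod_facts h5
  induction n using Nat.strong_induction_on with | _ n ih => ?_
  intro γ hγ hn
  by_cases h : ∀ α, MinEl G α → α * γ * α = 0
  · exact ⟨0, γ, InE.zero, InE.refl hγ, (zero_add γ).symm, InL.zero, inL_un hγ.1 (centralizer_le
      (iSup₂_le fun C hC => sigma_le (Cls.sub hE hC) : (⨆ C ∈ Cls G E, C) ≤ G0 G) (mem_cent_of_no_opp k2 k3 hU hγ h))⟩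
  push Not at h
  obtain ⟨α, hα, h⟩ := h
  obtain ⟨β, b1, b2, b3⟩ := exists_split k2 k3 hα hγ h
  have h0 := (InE.refl hγ).sub hγ.1 b2
  obtain ⟨γ₁, γ₂, c1, c2, c3, c4, c5⟩ := ih _ (hn ▸ b3) h0.inL rfl
  have m := un_mem_Esub b1.inL.1 (InE.refl b1.inL)
  by_cases hc : Esub G β ∈ Cls G E
  · exact ⟨β + γ₁, γ₂, b2.add hγ.1 (h0.trans c1), h0.trans c2, by rw [add_assoc, ← c3]; abel,
      (inL_un b1.inL.1 (le_gen hc m)).add c4 (b2.mul hγ.1 (h0.trans c1)) ((h0.trans c1).mul hγ.1 b2), c5⟩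
  · exact ⟨γ₁, β + γ₂, h0.trans c1, b2.add hγ.1 (h0.trans c2), by rw [add_left_comm, ← c3]; abel, c4,
      (inL_un b1.inL.1 (cls_commute k2 k3 hU hE (mem_Sigma.2 ⟨_, b1, rfl⟩) hc m)).add c5 (b2.mul hγ.1 (h0.trans c2))
        ((h0.trans c2).mul hγ.1 b2)⟩

theorem NoU.pCoreOf_eq (h : NoU K) : pCoreOf p K = ⊥ :=
  h _ (H02.pCoreOf_le K) (unip_of_pgroup (H02.pCoreOf_isPGroup K)) fun _ hx _ hg =>
    H01.conj_mem_of_le_normalizer' (H02.le_normalizer_pCoreOf K) hx hg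

/-- the conclusion of theorem B -/
def TB (p : ℕ) [Fact p.Prime] {M : Type*} [AddCommGroup M] [Module (ZMod p) M] (G R : Subgroup (GLM (ZMod p) M)) : Prop :=
  ∀ x ∈ PP p G R, (x.1 - 1) * (x.1 - 1) = 0 → x ∈ pCoreOf p G

/-- the irreducible inductive step -/
structure St (G R : Subgroup (GLM (ZMod p) M)) : Prop where
  h5 : 5 ≤ p
  cp : Cp G R
  irr : IsIrreducibleFor (G ⊔ R)
  npR : ¬ p ∣ Nat.card R
  ih : ∀ H R', H < G → Cp H R' → TB p H R'

namespace St
variable (s : St G R)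
include s

theorem noU : NoU (G ⊔ R) := noU_of_irr s.irr

theorem G0_le : G0 (G ⊔ R) ≤ G := (closure_le _).2 fun g hg =>
  mem_of_pow (hp.out.coprime_iff_not_dvd.2 s.npR).symm (pow_p_eq hg.inL.1) (s.cp.pow_mem (hg.inL.mem (val_eq g)))

theorem inL (h : InL (PP p G R) γ) : InL (G ⊔ R) γ := h.mono (s.cp.PP_le.1.trans le_sup_left)

theorem use {H : Subgroup (GLM (ZMod p) M)} (hlt : H < G) (hn : R ≤ normalizer (H : Set _)) (h : InL (PP p G R) γ)
    (hH : un γ h.1 ∈ H) : InL (pCoreOf p H) γ :=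
  inL_un h.1 (s.ih H R hlt (s.cp.of_le hlt.le hn) _ (s.cp.mem_sub h.un_mem hlt.le hH) (by rw [un_sub]; exact h.1))

theorem opp (h : InL (PP p G R) γ) (h0 : γ ≠ 0) : ∃ α, MinEl (G ⊔ R) α ∧ α * γ * α ≠ 0 := by
  obtain ⟨k2, k3⟩ := zmod_facts s.h5
  by_contra hc
  push Not at hc
  obtain ⟨α, hα⟩ := exists_min (s.inL h) h0
  obtain ⟨β, hβ⟩ := exists_np k2 k3 s.noU hα
  have hn : G ⊔ R ≤ normalizer ((G ⊓ centralizer (G0 (G ⊔ R) : Set _) : Subgroup _) : Set _) :=
    H01.le_normalizer_inf (sup_le le_normalizer s.cp.nrm) (H01.le_normalizer_centralizer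
      (H01.le_normalizer_of_conj_mem fun a ha x hx => G0_normal ha hx))
  have hlt : G ⊓ centralizer (G0 (G ⊔ R) : Set _) < G := lt_of_le_of_ne inf_le_left fun e => hβ.not_comm (comm_of_un _ _
    ((e.ge (s.G0_le hβ.mb.un_mem)).2 _ hα.un_mem))
  have : un γ h.1 ∈ _ := (s.use hlt (le_sup_right.trans hn) h
    ⟨s.cp.PP_le.1 h.un_mem, mem_cent_of_no_opp k2 k3 s.noU (s.inL h) hc⟩).un_mem
  rw [NoU.pCoreOf_eq (s.noU.normal (inf_le_left.trans le_sup_left) fun g hg => conjBy_eq_self_iff.2 (hn hg)), mem_bot] at this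
  exact h0 (by rw [← un_sub h.1, this]; simp)

variable (hG : G ≤ G0 (G ⊔ R)) (h : NP (G ⊔ R) α β)
  (hR : ∀ r ∈ R, (r : Module.End (ZMod p) M) * α = α * r ∧ (r : Module.End (ZMod p) M) * β = β * r)
include hG h hR

theorem core (hγ : InL (PP p G R) γ) (h1 : γ * (α * β) = α * β * γ) (h2 : γ * (β * α) = β * α * γ) :
    InL (pCoreOf p (G ⊓ normalizer (Esub (G ⊔ R) α : Set _))) γ ∧ γ * α = 0 := by
  have hRE : R ≤ normalizer (Esub (G ⊔ R) α : Set _) := fun r hr => h.norm_E (mem_sup_right hr)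
    (by rw [← mul_assoc, (hR r hr).1, mul_assoc, (hR r hr).2, mul_assoc])
    (by rw [← mul_assoc, (hR r hr).2, mul_assoc, (hR r hr).1, mul_assoc])
  have hn := H01.le_normalizer_inf s.cp.nrm (hRE.trans le_normalizer)
  have a := s.use (lt_of_le_of_ne inf_le_left fun e => h.not_norm (e.ge (s.G0_le h.mb.un_mem)).2) hn hγ
    ⟨s.cp.PP_le.1 hγ.un_mem, h.norm_E (s.inL hγ).un_mem (by rw [un_val, add_mul, mul_add, h1]; simp)
      (by rw [un_val, add_mul, mul_add, h2]; simp)⟩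
  refine ⟨a, LinearMap.ext fun v => ?_⟩
  set D := pCoreOf p (G ⊓ normalizer (Esub (G ⊔ R) α : Set _))
  have inv : ∀ K : Subgroup (GLM (ZMod p) M), K ≤ normalizer (Esub (G ⊔ R) α : Set _) → K ≤ normalizer (D : Set _) →
      Unip.Inv K (LinearMap.range α ⊓ Unip.fixMod D ⊥) := fun K k1 k2 g hg v hv =>
    ⟨inv_range h.ma.inL g (k1 hg) v hv.1, Unip.inv_fixMod (K := K) (fun g _ v hv => by rw [(Submodule.mem_bot _).1 hv]; simp)
      (fun _ hx _ hg => H01.conj_mem_of_le_normalizer' k2 hx hg) g hg v hv.2⟩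
  have := smith s.h5 s.irr (sup_le_sup_right hG R) le_sup_right h (fun r hr => (hR r hr).2) inf_le_left ?_
    (inv R hRE (hn.trans (H02.normalizer_le_normalizer_pCoreOf _)))
    (inv _ inf_le_right ((inf_le_inf_right _ s.G0_le).trans (H02.le_normalizer_pCoreOf _))) ⟨v, rfl⟩
  · simpa using this.2 _ a.un_mem
  · obtain ⟨w, hw⟩ := DFunLike.ne_iff.1 h.ma.ne
    obtain ⟨u, u1, u2, u3⟩ := Unip.exists_fixed (unip_of_pgroup (H02.pCoreOf_isPGroup _) : IsUnipotentOn D) bot_le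
      ((inv_range h.ma.inL).mono ((H02.pCoreOf_le _).trans inf_le_right)) ⟨w, rfl⟩ hw
    exact fun e => u2 (e.le ⟨u1, u3⟩)

variable (l0 : l ≠ 0) (l2 : l * l ≠ 1)
include l0 l2

theorem part2 (hγ : InL (PP p G R) γ) (hc : γ * hv l α β = hv l α β * γ) : γ = 0 := by
  obtain ⟨k2, k3⟩ := zmod_facts s.h5
  by_contra h0
  have d0 := fun {x} => deg0 (x := x) h.ma.inL.1 h.mb.inL.1 h.n1 h.n2 l0 l2
  obtain ⟨a, a1⟩ := s.core hG h hR hγ (d0 hc).1 (d0 hc).2
  obtain ⟨-, a2⟩ := s.core hG h.symm (fun r hr => (hR r hr).symm) hγ (d0 hc).2 (d0 hc).1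
  have a3 : α * γ = 0 := by rw [← h.n1, mul_assoc, mul_assoc, ← mul_assoc β, ← (d0 hc).2, ← mul_assoc γ, a2]; simp
  have a4 : β * γ = 0 := by rw [← h.n2, mul_assoc, mul_assoc, ← mul_assoc α, ← (d0 hc).1, ← mul_assoc γ, a1]; simp
  set D := pCoreOf p (G ⊓ normalizer (Esub (G ⊔ R) α : Set _))
  have key : ∀ {ξ}, MinEl (G ⊔ R) ξ → ξ * hv l α β = hv l α β * ξ → ∃ η, ∃ hη : NP (G ⊔ R) ξ η,
      η * hv l α β = hv l α β * η ∧ un η hη.mb.inL.1 ∈ normalizer (D : Set _) := fun {ξ} hξ e => by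
    obtain ⟨η, hη, e'⟩ := partner_eq s.h5 s.noU hξ (Q.G0_le (h.sl_mem (dg l l0))) (h.hh_order l0) one_ne_zero
      (by rw [h.hh_val, one_smul, e])
    rw [h.hh_val, inv_one, one_smul] at e'
    exact ⟨η, hη, e'.symm, H02.le_normalizer_pCoreOf _ ⟨s.G0_le hη.mb.un_mem, h.norm_E hη.mb.inL.un_mem
      (by rw [un_val, add_mul, mul_add, (d0 e'.symm).1]; simp) (by rw [un_val, add_mul, mul_add, (d0 e'.symm).2]; simp)⟩⟩
  obtain ⟨α₀, h1, h2⟩ := s.opp hγ h0
  obtain ⟨φ, i1, i2, -, -⟩ := (exists_norm k2 k3 h1 (s.inL hγ) h2).1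
  obtain ⟨η, hη, e, hn⟩ := key i2 (by
    unfold hv
    rw [add_mul, add_mul, mul_add, mul_add, smul_mul_assoc, smul_mul_assoc, mul_smul_comm, mul_smul_comm, ← mul_assoc,
      ← mul_assoc, i1.right a1, i1.right a2, mul_assoc, mul_assoc, i1.left a3, i1.left a4]; simp)
  have b := (clos s.h5 a hη.mb.inL.1 hn (nonopp' s.h5 (H02.pCoreOf_isPGroup _) hη.mb (s.inL hγ) hn a)).2
  have b0 : γ * η * γ = 0 := by
    by_contra b0
    have bm := hη.mb.of_le (b.mono ((H02.pCoreOf_le _).trans (inf_le_left.trans le_sup_left))) b0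
      ((rk_mul_le_left _ _).trans (rk_mul_le_right _ _))
    obtain ⟨ζ, hζ, -, hn'⟩ := key bm (by
      rw [mul_assoc, hc, ← mul_assoc, mul_assoc γ, e, ← mul_assoc, hc]; simp only [mul_assoc])
    exact hζ.mb.ne (hζ.n2 ▸ nonopp' s.h5 (H02.pCoreOf_isPGroup _) hζ.mb bm.inL hn' b)
  exact i2.ne (hη.n1 ▸ i1.left (by rw [mul_assoc]; exact i1.right (by rwa [← mul_assoc])))

theorem part1 (l3 : l * l * l ≠ 1) (hγ : InL (PP p G R) γ) : γ * α = α * γ := by
  have hα := h.ma.inL.1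
  have hβ := h.mb.inL.1
  have na : un α hα ∈ normalizer (PP p G R : Set _) := s.cp.norm ⟨s.G0_le h.ma.un_mem, fun r hr =>
    (un_comm_iff hα r).2 (hR r hr).1.symm⟩
  have nb : un β hβ ∈ normalizer (PP p G R : Set _) := s.cp.norm ⟨s.G0_le h.mb.un_mem, fun r hr =>
    (un_comm_iff hβ r).2 (hR r hr).2.symm⟩
  have a0 := nonopp' s.h5 s.cp.PP_le.2 h.ma (s.inL hγ) na hγ
  have hδ := (clos s.h5 hγ hα na a0).1
  rw [← sub_eq_zero]
  have d1 : α * (γ * α - α * γ) = 0 := by rw [mul_sub, ← mul_assoc, ← mul_assoc, a0, hα]; simp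
  have d2 : (γ * α - α * γ) * α = 0 := by rw [sub_mul, mul_assoc γ, a0, hα]; simp
  have d3 : (1 - α * β) * (γ * α - α * γ) * (1 - β * α) = 0 := by
    have e1 : α * (1 - β * α) = 0 := by rw [mul_sub, ← mul_assoc, h.n1, mul_one, sub_self]
    have e2 : (1 - α * β) * α = 0 := by rw [sub_mul, h.n1, one_mul, sub_self]
    rw [mul_sub (1 - α * β), sub_mul (_ * _), ← mul_assoc _ α γ, e2, mul_assoc, mul_assoc, e1]; simp
  generalize γ * α - α * γ = δ at *
  have d4 := nonopp' s.h5 s.cp.PP_le.2 h.mb (s.inL hδ) nb hδ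
  have d5 := deg1' hα h.n1 l0 d1 d2 d3 d4
  have d6 : δ * hv l α β = l⁻¹ • (hv l α β * δ) := by rw [d5, smul_smul, inv_mul_cancel₀ l0, one_smul]
  obtain ⟨-, -, f3, f4⟩ := hv_facts (l := l) hα hβ h.n1 h.n2
  have g1 : hv l α β * (δ * β) = δ * β := by
    rw [← mul_assoc, d5, smul_mul_assoc, mul_assoc, f3, mul_smul_comm, smul_smul, mul_inv_cancel₀ l0, one_smul]
  have g2 : β * δ * hv l α β = β * δ := by
    rw [mul_assoc, d6, mul_smul_comm, ← mul_assoc, f4, smul_mul_assoc, smul_smul, inv_mul_cancel₀ l0, one_smul]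
  obtain ⟨c1, c2⟩ := clos s.h5 hδ hβ nb d4
  have c3 := s.part2 hG h hR l0 l2 c2 (by rw [← mul_assoc _ _ δ, g1, mul_assoc δ β, mul_assoc δ, g2])
  by_contra h0
  have cm := h.mb.of_le (s.inL c1) (fun e => h0 (by
    have : (1 - α * β) * δ * (1 - β * α) = δ + α * (δ * β - β * δ) - (δ * β - β * δ) * α - α * δ * β - β * (δ * α) +
      α * (β * δ * β) * α := by noncomm_ring
    rw [d3, e, d1, d2, d4] at this
    simpa using this.symm)) (by
    rw [sub_eq_add_neg]
    exact (rk_add_le _ _).trans (by rw [rk_neg]; exact rk_split c3))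
  obtain ⟨η, hη, e⟩ := partner_eq s.h5 s.noU cm (Q.G0_le (h.sl_mem (dg l l0))) (h.hh_order l0) (inv_ne_zero l0) (by
    rw [h.hh_val, mul_sub, sub_mul, g1, g2, mul_assoc δ, f4, ← mul_assoc, f3, smul_sub, mul_smul_comm, smul_smul,
      inv_mul_cancel₀ l0, one_smul, smul_mul_assoc])
  rw [h.hh_val, inv_inv] at e
  obtain ⟨e1, e2, e3⟩ := deg1 hα hβ h.n1 h.n2 l0 l2 l3 e
  obtain ⟨S, s1, -, s2, s3⟩ := s.cp.syl (T := UU (G ⊔ R) α) (inf_le_left.trans s.G0_le) (UU_pgroup s.h5)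
    (H01.le_normalizer_of_conj_mem fun r hr x hx => UU_norm (mem_sup_right hr) one_ne_zero
      (by rw [one_smul, (hR r hr).1]) hx)
  exact hη.mb.ne (hη.n2 ▸ nonopp s.h5 s1.pg hη.mb cm.inL (inL_un hη.mb.inL.1 (s2 ⟨hη.mb.un_mem, by
    change _ ∈ flagJ _ _
    rw [un_sub]; exact flag_of h.n1 e1 e2 e3⟩)) (c1.mono s3))

end St

theorem St.main (s : St G R) (hγ : InL (PP p G R) γ) : γ = 0 := by
  obtain ⟨k2, k3⟩ := zmod_facts s.h5
  by_contra h0
  obtain ⟨α₀, h1, h2⟩ := s.opp hγ h0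
  have hE := mem_Sigma.2 ⟨_, h1, rfl⟩
  set E := Esub (G ⊔ R) α₀ with hE'
  set K := ⨆ C ∈ Cls (G ⊔ R) E, C with hK
  have hKG : K ≤ G0 (G ⊔ R) := iSup₂_le fun C hC => sigma_le (Cls.sub hE hC)
  set R₁ := stabCls (le_sup_right : R ≤ G ⊔ R) E
  have hR₁ : R₁ ≤ R := fun a ha => ha.1
  have cl : ∀ a ∈ R, ∀ C ∈ Cls (G ⊔ R) E, Cls (G ⊔ R) (conjBy C a) = Cls (G ⊔ R) (conjBy E a) := by
    rintro a ha _ ⟨g, hg, rfl⟩
    refine Cls.eq ⟨a * g * a⁻¹, G0_normal (mem_sup_right ha) hg, ?_⟩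
    rw [conjBy_conjBy, conjBy_conjBy, inv_mul_cancel_right]
  have out : ∀ a ∈ R, a ∉ R₁ → conjBy K a ≤ centralizer (K : Set _) := fun a ha hn => by
    simp only [hK, conjBy, Subgroup.map_iSup]
    exact iSup₂_le fun C hC => cls_commute k2 k3 s.noU hE (sigma_conj (Cls.sub hE hC) (mem_sup_right ha))
      fun e => hn ⟨ha, (cl a ha C hC).symm.trans (Cls.eq e)⟩
  have nK : ∀ {A : Subgroup (GLM (ZMod p) M)}, (∀ a ∈ A, ∀ C ∈ Cls (G ⊔ R) E, conjBy C a ∈ Cls (G ⊔ R) E) →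
      A ≤ normalizer (K : Set _) := fun h => H01.le_normalizer_of_conj_mem fun a ha x hx => by
    have : conjBy K a ≤ K := by
      simp only [hK, conjBy, Subgroup.map_iSup]
      exact iSup₂_le fun C hC => le_gen (h a ha C hC)
    exact this ⟨x, hx, rfl⟩
  have n1 : R₁ ≤ normalizer (K : Set _) := nK fun a ha C hC => by
    rw [← ha.2, ← cl a ha.1 C hC]; exact Cls.self _
  have n0 : G0 (G ⊔ R) ≤ normalizer (K : Set _) := nK fun a ha C hC => Cls.conj hC ha
  rcases (hKG.trans s.G0_le).lt_or_eq with hlt | he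
  · obtain ⟨γ₁, γ₂, c1, c2, c3, c4, c5⟩ := split_cls s.h5 s.noU hE _ (s.inL hγ) rfl
    have cK : Cp K R₁ := ⟨n1, H01.coprime_of_le_right (H01.coprime_of_le_left s.cp.cop hR₁) hlt.le⟩
    have hx : un γ₁ c4.1 ∈ PP p K R₁ := mem_PP c4.un_mem fun T t1 t2 t3 => by
      have nn : ∀ a ∈ R, conjBy T a ≤ normalizer (T : Set _) := fun a ha => by
        by_cases h : a ∈ R₁
        · rw [conjBy_eq_self_iff.2 (t3 h)]; exact le_normalizer
        · exact ((conjBy_le_conjBy.2 t1).trans (out a ha h)).trans ((centralizer_le t1).trans (centralizer_le_normalizer _))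
      have tp : IsPGroup p ↥(⨆ a ∈ R, conjBy T a) := (H02.pCoreOf_isPGroup (⨆ a ∈ R, conjBy T a)).to_le
        (iSup₂_le fun a ha => H02.le_pCoreOf (le_iSup₂_of_le (f := fun a (_ : a ∈ R) => conjBy T a) a ha le_rfl)
          (iSup₂_le fun b hb => by
            rw [show conjBy T b = conjBy (conjBy T (a⁻¹ * b)) a by rw [conjBy_conjBy, mul_inv_cancel_left]]
            exact (map_mono (nn _ (mul_mem (inv_mem ha) hb))).trans (le_normalizer_map _)) (t2.map _))
      have t4 := (s.cp.sup hγ.un_mem (iSup₂_le fun a ha => (conjBy_le_conjBy.2 (t1.trans hlt.le)).trans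
        (conjBy_eq_self_iff.2 (s.cp.nrm ha)).le) tp (H01.le_normalizer_of_conj_mem fun r hr y hy => by
          have : conjBy (⨆ a ∈ R, conjBy T a) r ≤ ⨆ a ∈ R, conjBy T a := by
            simp only [conjBy, Subgroup.map_iSup]
            exact iSup₂_le fun a ha => le_iSup₂_of_le (f := fun a (_ : a ∈ R) => conjBy T a) (r * a) (mul_mem hr ha)
              (conjBy_conjBy T r a).le
          exact this ⟨y, hy, rfl⟩)).to_le (sup_le_sup_right (le_iSup₂_of_le (f := fun a (_ : a ∈ R) => conjBy T a) 1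
            (one_mem R) (conjBy_one T).ge) _)
      have t5 := t4.to_sup_of_normal_left' (zpowers_pgroup (pow_p_eq (g := un γ₂ c5.1) (by rw [un_sub]; exact c5.1)))
        (zpowers_le.2 (centralizer_le_normalizer _ (le_centralizer_iff.1 (sup_le ?_ (zpowers_le.2 ?_)) (mem_zpowers _))))
      · refine t5.to_le (sup_le (le_sup_left.trans le_sup_left) (zpowers_le.2 ?_))
        have : un γ₁ c4.1 = un γ hγ.1 * (un γ₂ c5.1)⁻¹ := by
          rw [eq_mul_inv_iff_mul_eq]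
          ext1
          rw [Units.val_mul, un_val, un_val, un_val, add_mul, mul_add γ₁, c1.mul hγ.1 c2, c3]; simp; abel
        rw [this]
        exact mul_mem (mem_sup_left (mem_sup_right (mem_zpowers _))) (inv_mem (mem_sup_right (mem_zpowers _)))
      · exact le_centralizer_iff.1 (zpowers_le.2 (centralizer_le t1 c5.un_mem))
      · refine le_centralizer_iff.1 (zpowers_le.2 ?_) (mem_zpowers _)
        rintro _ ⟨n, rfl⟩
        refine Commute.zpow_left ((un_comm_iff c5.1 _).2 ?_) n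
        rw [un_val, mul_add, add_mul, c2.right hγ.1, c2.left hγ.1]; simp
    have := s.ih K R₁ hlt cK _ hx (by rw [un_sub]; exact c4.1)
    rw [NoU.pCoreOf_eq ((s.noU.normal Q.G0_le fun g hg => conjBy_eq_self_iff.2 (H01.le_normalizer_of_conj_mem
      (fun a ha x hx => G0_normal ha hx) hg)).normal hKG fun g hg => conjBy_eq_self_iff.2 (n0 hg)), mem_bot] at this
    have e1 : γ₁ = 0 := by rw [← un_sub c4.1, this]; simp
    rw [e1, zero_add] at c3
    have := comm_of_un h1.inL.1 c5.1 (c5.un_mem _ (le_gen (Cls.self E) (un_mem_Esub h1.inL.1 (InE.refl h1.inL))))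
    exact h2 (by rw [c3, this, mul_assoc, h1.inL.1, mul_zero])
  · obtain ⟨α, β, -, h, hR⟩ := fixed_np k2 k3 s.noU h1 (le_sup_right : R ≤ G ⊔ R)
      (H01.coprime_of_le_right s.cp.cop s.G0_le) fun a ha => by
        by_contra hn
        have hm := h1.conj (mem_sup_right ha : a ∈ G ⊔ R)
        obtain ⟨β, hβ⟩ := exists_np k2 k3 s.noU hm
        have m : un _ hm.inL.1 ∈ conjBy K a := by
          refine conjBy_le_conjBy.2 (le_gen (Cls.self E)) ?_
          rw [hE', Esub_conj h1.inL.1 (mem_sup_right ha)]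
          exact un_mem_Esub hm.inL.1 (InE.refl hm.inL)
        exact hβ.not_comm (comm_of_un _ _ (out a ha (fun e => hn (e.2 ▸ Cls.self (conjBy E a))) m _
          (he.ge (s.G0_le hβ.mb.un_mem))).symm)
    obtain ⟨l, l0, l2, l3⟩ := exists_l s.h5
    have hG := he.ge.trans hKG
    have a : Commute γ α := s.part1 hG h hR l0 l2 l3 hγ
    have b : Commute γ β := s.part1 hG h.symm (fun r hr => (hR r hr).symm) l0 l2 l3 hγ
    exact h0 (s.part2 hG h hR l0 l2 hγ (((Commute.one_right γ).add_right ((a.mul_right b).smul_right _)).add_right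
      ((b.mul_right a).smul_right _)).eq)

end Cfsg.Agent.H26.Cq
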