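import Mathlib
import Cfsg.Agent.H26.Cq5
import Cfsg.Agent.H17.KInf2

/-!
Flavell's theorem B (`thmB`) and the equivariant characteristic subgroup theorem (`flavell`).
-/

set_option autoImplicit false
set_option linter.unusedSectionVars false

namespace Cfsg.Agent.H26.Cq

open Cfsg H12 H12.Q Subgroup
open scoped commutatorElement

universe u

variable {p : ℕ} [hp : Fact p.Prime]

section pp
variable {X : Type*} [Group X] [Finite X] {G R H T : Subgroup X} {x : X}

theorem mem_PP_of_map {Y : Type*} [Group Y] [Finite Y] {f : X →* Y} (hf : Function.Injective f)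
    (h : Cp (G.map f) (R.map f)) (hx : f x ∈ PP p (G.map f) (R.map f)) : x ∈ PP p G R :=
  mem_PP ((mem_map_iff_mem hf).1 (h.PP_le.1 hx)) fun T h1 h2 h3 => by
    have := h.sup hx (map_mono h1) (h2.map f) ((map_mono h3).trans (le_normalizer_map f))
    rw [← MonoidHom.map_zpowers, ← Subgroup.map_sup] at this
    exact this.of_equiv (equivMapOfInjective _ f hf).symm

theorem Cp.sub (h : Cp G R) : Cp (G.subgroupOf (G ⊔ R)) (R.subgroupOf (G ⊔ R)) :=
  ⟨H01.le_normalizer_of_conj_mem fun _ hr _ hy => H01.conj_mem_of_le_normalizer h.nrm hr hy, by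
    rw [Nat.card_congr (subgroupOfEquivOfLe le_sup_left).toEquiv, Nat.card_congr (subgroupOfEquivOfLe le_sup_right).toEquiv]
    exact h.cop⟩

theorem Cp.mem_PP_sub (h : Cp G R) {x : ↥(G ⊔ R)} :
    x ∈ PP p (G.subgroupOf (G ⊔ R)) (R.subgroupOf (G ⊔ R)) ↔ x.1 ∈ PP p G R := by
  have e1 := map_subgroupOf_eq_of_le (le_sup_left : G ≤ G ⊔ R)
  have e2 := map_subgroupOf_eq_of_le (le_sup_right : R ≤ G ⊔ R)
  refine ⟨fun hx => ?_, fun hx => mem_PP_of_map (subtype_injective _) (by rwa [e1, e2]) (by rwa [e1, e2])⟩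
  have := h.sub.mem_map hx (G ⊔ R).subtype
  rwa [e1, e2] at this

theorem Cp.pCoreOf_le (h : Cp G R) : pCoreOf p G ≤ PP p G R := fun x hx =>
  mem_PP (H02.pCoreOf_le G hx) fun _ h1 h2 _ => (h2.to_sup_of_normal_right' (H02.pCoreOf_isPGroup G)
    (h1.trans (H02.le_normalizer_pCoreOf G))).to_le (sup_le_sup_left (zpowers_le.2 hx) _)

end pp

theorem thmB (h5 : 5 ≤ p) (n : ℕ) : ∀ (M : Type u) [AddCommGroup M] [Module (ZMod p) M] [FiniteDimensional (ZMod p) M]
    (G R : Subgroup (GLM (ZMod p) M)), Nat.card G + Module.finrank (ZMod p) M = n → Cp G R → TB p G R := by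
  induction n using Nat.strong_induction_on with | _ n ih => ?_
  intro M _ _ _ G R hn cp x hx hq
  have hxG := cp.PP_le.1 hx
  by_cases h1 : x = 1
  · exact h1 ▸ one_mem _
  have npR : ¬ p ∣ Nat.card R := fun h => hp.out.ne_one (Nat.eq_one_of_dvd_coprimes cp.cop h
    ((orderOf_eq_prime (pow_p_eq hq) h1).symm.dvd.trans (G.orderOf_dvd_natCard hxG)))
  by_cases irr : IsIrreducibleFor (G ⊔ R)
  · refine (h1 (Units.ext (sub_eq_zero.1 (St.main ⟨h5, cp, irr, npR, fun H R' hlt c => ih _ ?_ M H R' rfl c⟩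
      (inL_of_mem hx hq))))).elim
    rw [← hn]
    exact Nat.add_lt_add_right (H01.card_lt_of_lt hlt) _
  have hne : ∃ m : M, m ≠ 0 := by
    by_contra hc
    push Not at hc
    exact h1 (Units.ext (LinearMap.ext fun v => (hc _).trans (hc _).symm))
  simp only [IsIrreducibleFor, hne, true_and, not_forall, not_or] at irr
  obtain ⟨W, hW, w0, w1⟩ := irr
  let ρ : Representation (ZMod p) ↥(G ⊔ R) M := (Units.coeHom _).comp (G ⊔ R).subtype
  have hW' : ∀ g, W ≤ W.comap (ρ g) := fun g w hw => hW g g.2 w hw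
  let x' : ↥(G ⊔ R) := ⟨x, mem_sup_left hxG⟩
  have key : ∀ (N : Type u) [AddCommGroup N] [Module (ZMod p) N] [FiniteDimensional (ZMod p) N]
      (σ : Representation (ZMod p) ↥(G ⊔ R) N), Module.finrank (ZMod p) N < Module.finrank (ZMod p) M →
      (σ x' - 1) * (σ x' - 1) = 0 → ∃ D : Subgroup ↥(G ⊔ R), x' ∈ D ∧ G.subgroupOf (G ⊔ R) ≤ normalizer (D : Set _) ∧
        ∀ y ∈ D, ∃ k, σ (y ^ p ^ k) = 1 := fun N _ _ _ σ hlt h => by
    refine ⟨(pCoreOf p ((G.subgroupOf (G ⊔ R)).map σ.toHomUnits)).comap σ.toHomUnits, ih _ ?_ N _ _ rfl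
      (cp.sub.map σ.toHomUnits) _ (cp.sub.mem_map (cp.mem_PP_sub.2 hx) _) h,
      H01.le_normalizer_of_conj_mem fun g hg y hy => ?_, fun y hy => ?_⟩
    · rw [← hn]
      refine add_lt_add_of_le_of_lt ((Nat.le_of_dvd Nat.card_pos (card_map_dvd _ _)).trans ?_) hlt
      rw [Nat.card_congr (subgroupOfEquivOfLe le_sup_left).toEquiv]
    · rw [mem_comap, map_mul, map_mul, map_inv]
      exact H01.conj_mem_of_le_normalizer (H02.le_normalizer_pCoreOf _) ⟨g, hg, rfl⟩ hy
    · obtain ⟨k, hk⟩ := H02.pCoreOf_isPGroup _ ⟨_, hy⟩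
      exact ⟨k, by rw [map_pow]; exact congrArg (fun z => z.1.1) hk⟩
  obtain ⟨D₁, a1, a2, a3⟩ := key W (ρ.subrepresentation W hW') (Submodule.finrank_lt w1) (LinearMap.ext fun w =>
    Subtype.ext (LinearMap.congr_fun hq w))
  obtain ⟨D₂, b1, b2, b3⟩ := key (M ⧸ W) (ρ.quotient W hW') (by
    have := W.finrank_quotient_add_finrank
    have := Submodule.finrank_eq_zero.not.2 w0
    omega) (LinearMap.ext fun w => by
      obtain ⟨v, rfl⟩ := W.mkQ_surjective w
      exact congrArg W.mkQ (LinearMap.congr_fun hq v))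
  refine H02.le_pCoreOf (N := (G.subgroupOf (G ⊔ R) ⊓ (D₁ ⊓ D₂)).map (G ⊔ R).subtype)
    (map_le_iff_le_comap.2 inf_le_left) ?_ (IsPGroup.map (fun y => ?_) _) ⟨x', ⟨hxG, a1, b1⟩, rfl⟩
  · refine le_trans ?_ ((map_mono (H01.le_normalizer_inf le_normalizer (H01.le_normalizer_inf a2 b2))).trans
      (le_normalizer_map _))
    rw [map_subgroupOf_eq_of_le le_sup_left]
  · obtain ⟨a, ha⟩ := a3 y y.2.2.1
    obtain ⟨b, hb⟩ := b3 y y.2.2.2
    refine ⟨a + b + 1, Subtype.ext (Subtype.ext ?_)⟩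
    change y.1.1 ^ p ^ (a + b + 1) = 1
    rw [pow_succ, pow_mul]
    refine pow_p_eq (LinearMap.ext fun v => ?_)
    have e1 : ρ.subrepresentation W hW' (y ^ p ^ (a + b)) = 1 := by rw [pow_add, pow_mul, map_pow, ha, one_pow]
    have e2 : ρ.quotient W hW' (y ^ p ^ (a + b)) = 1 := by rw [add_comm, pow_add, pow_mul, map_pow, hb, one_pow]
    have e3 := (Submodule.Quotient.eq W).1 (LinearMap.congr_fun e2 (W.mkQ v))
    exact sub_eq_zero.2 (congrArg Subtype.val (LinearMap.congr_fun e1 ⟨_, e3⟩))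

section grp
variable {Γ : Type u} [Group Γ] [Finite Γ] {G R S : Subgroup Γ} (h5 : 5 ≤ p) (cp : Cp G R)
include h5 cp

theorem Cp.chief [G.Normal] {a : Γ} (ha : a ∈ PP p G R) {W : Subgroup Γ} [W.Normal] (hW : IsPGroup p W) (hne : W ≠ ⊥)
    (hmin : ∀ M : Subgroup Γ, M.Normal → M ≤ W → M = ⊥ ∨ M = W) (hq : ⁅⁅W, zpowers a⁆, zpowers a⁆ = ⊥) :
    a ∈ centralizer (W : Set Γ) := by
  have : Group.IsNilpotent W := hW.isNilpotent
  obtain ⟨hc, q, hq1, hq2⟩ := H02.minimal_normal_elementary_of_isSolvable hne hmin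
  have hqp : q = p := by
    obtain ⟨w, hw⟩ := ne_bot_iff_exists_ne_one.1 hne
    have : Fact q.Prime := ⟨hq1⟩
    obtain ⟨k, hk⟩ := hW w
    have := orderOf_dvd_of_pow_eq_one hk
    rw [orderOf_eq_prime (Subtype.ext (hq2 w w.2)) hw] at this
    exact (Nat.prime_dvd_prime_iff_eq hq1 hp.out).1 (hq1.dvd_of_dvd_pow this)
  subst hqp
  refine cent_of_lin ⟨hc, hq2⟩ hne hmin hq fun M _ _ _ ρ hU h => ?_
  have := thmB h5 _ M _ _ rfl (cp.map ρ) _ (cp.mem_map ha ρ) h
  rwa [NoU.pCoreOf_eq (hU.normal (map_le_range ρ G) ?_), mem_bot] at this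
  rintro _ ⟨g, rfl⟩
  exact conjBy_eq_self_iff.2 (le_normalizer_map ρ ⟨g, le_normalizer_of_normal (mem_top g), rfl⟩)

theorem Cp.kLo_normal [G.Normal] (hc : centralizer (pCore p Γ : Set Γ) ≤ pCore p Γ) (h1 : pCore p Γ ≤ S)
    (h2 : S ≤ PP p G R) : (H17.kLo S).Normal := by
  by_contra hK
  obtain ⟨A, hAn, hAT, hA3, hA4⟩ := H17.exists_crit (H02.pCore_isPGroup p Γ)
  obtain ⟨g, hg, -, -, -, h3⟩ := H17.kinf_crit h1 hAT hA3 hA4 (Or.inl hK)
  obtain ⟨U, V, ⟨hlt, hU, hV, hmin⟩, hUA, h4, h6⟩ := h3 hc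
  have hf := QuotientGroup.mk'_surjective V
  have := hU.map _ hf
  have := Normal.map (H := G) inferInstance _ hf
  have := (cp.map (QuotientGroup.mk' V)).chief h5 (cp.mem_map (h2 hg) _)
    (((H02.pCore_isPGroup p Γ).to_le (hUA.trans hAT)).map _)
    (by rw [Ne, Subgroup.map_eq_bot_iff, QuotientGroup.ker_mk']; exact hlt.not_ge)
    (H02.minimal_normal_map_of_chief_factor hlt.le hmin) (by
      rwa [← MonoidHom.map_zpowers, ← map_commutator, ← map_commutator, Subgroup.map_eq_bot_iff, QuotientGroup.ker_mk'])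
  refine h6 (le_trans ?_ (QuotientGroup.ker_mk' V).le)
  rwa [← Subgroup.map_eq_bot_iff, map_commutator, MonoidHom.map_zpowers, commutator_comm,
    commutator_eq_bot_iff_le_centralizer, zpowers_le]

theorem Cp.flavell_top (ht : G ⊔ R = ⊤) (hc : G ⊓ centralizer (pCoreOf p G : Set Γ) ≤ pCoreOf p G)
    (hR : (Nat.card R).Coprime p) : G ≤ normalizer (H17.kLo (PP p G R) : Set Γ) := by
  have : G.Normal := normalizer_eq_top_iff.1 (top_le_iff.1 (ht ▸ sup_le le_normalizer cp.nrm))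
  have : (R ⊓ centralizer (G : Set Γ)).Normal := normalizer_eq_top_iff.1 (top_le_iff.1 (ht ▸ sup_le
    ((le_centralizer_iff.1 inf_le_right).trans (centralizer_le_normalizer _))
    (H01.le_normalizer_inf le_normalizer (H01.le_normalizer_centralizer cp.nrm))))
  set f := QuotientGroup.mk' (R ⊓ centralizer (G : Set Γ))
  have hf : Function.Surjective f := QuotientGroup.mk'_surjective _
  have pw : ∀ x : Γ, x ^ Nat.card R ∈ G := fun x => cp.pow_mem (ht ▸ mem_top x)
  have one : ∀ g ∈ G, g ^ Nat.card R = 1 → g = 1 := fun g hg h => orderOf_eq_one_iff.1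
    (Nat.eq_one_of_dvd_coprimes cp.cop (orderOf_dvd_of_pow_eq_one h) (G.orderOf_dvd_natCard hg))
  have pr : ∀ r ∈ R, r ^ Nat.card R = 1 := fun r hr => congrArg Subtype.val (pow_card_eq_one' (x := (⟨r, hr⟩ : R)))
  have inj : ∀ g ∈ G, f g = 1 → g = 1 := fun g hg h => one g hg (pr g ((QuotientGroup.eq_one_iff g).1 h).1)
  have e : pCore p _ = (pCoreOf p G).map f := by
    have := Normal.map (H := pCoreOf p G) inferInstance _ hf
    refine le_antisymm (fun y hy => ?_) (H02.le_pCore ((H02.pCoreOf_isPGroup G).map f))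
    obtain ⟨x, rfl⟩ := hf y
    obtain ⟨k, hk⟩ := H02.pCore_isPGroup p _ ⟨_, hy⟩
    obtain ⟨g, hg, e⟩ : f x ∈ G.map f := mem_of_pow (hR.pow_right k) (congrArg Subtype.val hk) ⟨_, pw x, map_pow _ _ _⟩
    refine ⟨g, H02.le_pCoreOf (N := G ⊓ (pCore p _).comap f) inf_le_left le_normalizer_of_normal (fun z => ?_)
      ⟨hg, by rwa [← e] at hy⟩, e⟩
    obtain ⟨k, hk⟩ := H02.pCore_isPGroup p _ ⟨f z, z.2.2⟩
    exact ⟨k, Subtype.ext (inj (z.1 ^ p ^ k) (G.pow_mem z.2.1 _) (by rw [map_pow]; exact congrArg Subtype.val hk))⟩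
  have := Normal.map (H := G) inferInstance _ hf
  have h := (cp.map f).kLo_normal h5 (S := (PP p G R).map f) ?_ (e ▸ map_mono cp.pCoreOf_le)
    (by rintro _ ⟨x, hx, rfl⟩; exact cp.mem_map hx f)
  · have hj : Function.Injective (f.comp G.subtype) := (injective_iff_map_eq_one _).2 fun g hg => Subtype.ext (inj _ g.2 hg)
    have e1 := map_subgroupOf_eq_of_le (cp.PP_le (p := p)).1
    rw [← e1, map_map, H17.kLo_map hj] at h
    have := h.comap (f.comp G.subtype)
    rw [comap_map_eq_self_of_injective hj] at this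
    rw [← e1, H17.kLo_map G.subtype_injective]
    exact _root_.H26.le_normalizer_map_subtype _
  rw [e]
  intro y hy
  obtain ⟨x, rfl⟩ := hf y
  have hx : x ∈ centralizer (pCoreOf p G : Set Γ) := fun t ht => commutatorElement_eq_one_iff_mul_comm.1 (inj _
    (commutator_le_left G ⊤ (commutator_mem_commutator (H02.pCoreOf_le G ht) (mem_top x)))
    (by rw [map_commutatorElement]; exact commutatorElement_eq_one_iff_mul_comm.2 (hy _ ⟨t, ht, rfl⟩)))
  have h1 := hc ⟨pw x, Subgroup.pow_mem _ hx _⟩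
  obtain ⟨k, hk⟩ := H02.pCoreOf_isPGroup G ⟨_, h1⟩
  refine mem_of_pow (m := p ^ k) (hR.pow_right k) ?_ ⟨_, h1, map_pow _ _ _⟩
  have hz : (x ^ p ^ k) ^ Nat.card R = 1 := by rw [← pow_mul, mul_comm, pow_mul]; exact congrArg Subtype.val hk
  have hz' := zpowers_le.2 (Subgroup.pow_mem _ hx (p ^ k))
  rw [← map_pow]
  generalize x ^ p ^ k = z at hz hz'
  have h2 : z ∈ centralizer (G : Set Γ) := H01.le_centralizer_of_commutator_commutator_eq_bot (A := zpowers z)
    le_normalizer_of_normal (by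
      rw [Nat.card_zpowers]; exact cp.cop.coprime_dvd_left (orderOf_dvd_of_pow_eq_one hz)) (Or.inl inferInstance)
    (eq_bot_iff.2 ((commutator_mono ((le_inf (commutator_le_left _ _) ((commutator_mono le_rfl hz').trans
      (commutator_le_right _ _))).trans hc) le_rfl).trans
      (commutator_eq_bot_iff_le_centralizer.2 (le_centralizer_iff.1 hz')).le)) (mem_zpowers z)
  obtain ⟨g, hg, r, hr, rfl⟩ := (_root_.H26.mem_sup_of_le_normalizer' cp.nrm).1 (ht ▸ mem_top z)
  have h3 : Commute g r := mul_left_cancel (a := g) (by rw [← mul_assoc g r]; exact h2 g hg)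
  rw [h3.mul_pow, pr r hr, mul_one] at hz
  rw [one g hg hz, one_mul] at h2 ⊢
  exact (QuotientGroup.eq_one_iff r).2 ⟨hr, h2⟩

theorem Cp.flavell (hc : centralizer (pCore p G : Set G) ≤ pCore p G) (hR : (Nat.card R).Coprime p) :
    G ≤ normalizer (H17.kLo (PP p G R) : Set Γ) := by
  have e1 := map_subgroupOf_eq_of_le (le_sup_left : G ≤ G ⊔ R)
  have e : (PP p (G.subgroupOf (G ⊔ R)) (R.subgroupOf (G ⊔ R))).map (G ⊔ R).subtype = PP p G R :=
    le_antisymm (map_le_iff_le_comap.2 fun x hx => cp.mem_PP_sub.1 hx) fun x hx =>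
      ⟨⟨x, mem_sup_left (cp.PP_le.1 hx)⟩, cp.mem_PP_sub.2 hx, rfl⟩
  have := map_mono (f := (G ⊔ R).subtype) (cp.sub.flavell_top h5 (by
    rw [← subgroupOf_sup le_sup_left le_sup_right, subgroupOf_self]) (fun x hx => ?_) (by
      rwa [Nat.card_congr (subgroupOfEquivOfLe le_sup_right).toEquiv]))
  · rw [e1] at this
    rw [← e, H17.kLo_map (subtype_injective _)]
    exact this.trans (le_normalizer_map _)
  · rw [← mem_map_iff_mem (subtype_injective _), H02.pCoreOf_map_subtype, e1]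
    refine ⟨⟨x, hx.1⟩, hc fun y hy => Subtype.ext (congrArg (G ⊔ R).subtype (hx.2 ⟨y, mem_sup_left y.2⟩ ?_)), rfl⟩
    rw [SetLike.mem_coe, ← mem_map_iff_mem (subtype_injective _), H02.pCoreOf_map_subtype, e1]
    exact ⟨y, hy, rfl⟩

end grp

end Cfsg.Agent.H26.Cq
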