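import Mathlib
import Cfsg.Agent.H26.Cq6
import Cfsg.Agent.H26.Burn
import Cfsg.Agent.H24.Morph

/-!
The equivariant ZJ-theorem for groups `G` with `[C_G(O_p(G)), R] ≤ O_p(G)` (`Cp.zj`), images of `PP` under morphisms.
-/

set_option autoImplicit false
set_option linter.unusedSectionVars false

namespace Cfsg.Agent.H26.Cq

open Cfsg Subgroup H24
open scoped commutatorElement

universe u

local notation:max "N_(" A ")" => Subgroup.normalizer (SetLike.coe A)
local notation:max "C_(" A ")" => Subgroup.centralizer (SetLike.coe A)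

variable {p : ℕ} [hp : Fact p.Prime] {X : Type u} [Group X] [Finite X] {G R H T K L D U : Subgroup X}

theorem Cp.solv (cp : Cp G R) : Group.IsSolvable R ∨ Group.IsSolvable G := solv_or cp.cop dvd_rfl dvd_rfl

theorem Cp.le_PP (cp : Cp G R) (h1 : T ≤ G) (hT : IsPGroup p T) (h2 : R ≤ N_(T)) (h3 : G ⊓ C_(R) ≤ N_(T)) :
    T ≤ PP p G R := le_iInf₂ fun S hS => by
  obtain ⟨S₀, a, b, c, -⟩ := cp.syl h1 hT h2
  obtain ⟨g, hg, e⟩ := H01.invariant_sylow_conj cp.nrm cp.cop cp.solv a.le a.pg a.not_dvd hS.1.le hS.1.pg hS.1.not_dvd b hS.2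
  rw [← e, ← _root_.H26.cj_eq_iff.2 (h3 hg)]
  exact map_mono c

theorem Cp.norm' (cp : Cp G R) (h1 : K ≤ N_(G)) (h2 : K ≤ N_(R)) : K ≤ N_(PP p G R) :=
  H01.le_normalizer_of_conj_mem fun g hg x hx => by
    have := cp.mem_map hx (MulAut.conj g).toMonoidHom
    rwa [_root_.H26.cj_eq_iff.2 (h1 hg), _root_.H26.cj_eq_iff.2 (h2 hg)] at this

theorem Cp.normR (cp : Cp G R) : R ≤ N_(PP p G R) := cp.norm' cp.nrm le_normalizer

theorem Cp.split (cp : Cp G R) : G ≤ ⁅G, R⁆ ⊔ G ⊓ C_(R) := (H01.commutator_sup_centralizer cp.nrm cp.cop cp.solv).ge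

theorem Cp.idem (cp : Cp G R) : ⁅G, R⁆ ≤ ⁅⁅G, R⁆, R⁆ := (H01.commutator_commutator_eq cp.nrm cp.cop cp.solv).ge

theorem Cp.comm_le (cp : Cp G R) : ⁅G, R⁆ ≤ G := H01.commutator_le_left_of_le_normalizer cp.nrm

theorem normalizer_le_kLo (P : Subgroup X) : N_(P) ≤ N_(H17.kLo P) := fun g hg =>
  _root_.H26.cj_eq_iff.1 (by rw [← H17.kLo_cj, _root_.H26.cj_eq_iff.2 hg])

section im
variable {Y : Type u} [Group Y] [Finite Y] {f : L →* Y}

theorem Cp.im (cp : Cp G R) (f : L →* Y) : Cp (im f G) (im f R) :=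
  ⟨im_le_normalizer cp.nrm, (cp.cop.coprime_dvd_left (card_im_dvd _)).coprime_dvd_right (card_im_dvd _)⟩

theorem Cp.im_PP (cp : Cp G R) (hG : G ≤ L) (hR : R ≤ L)
    (hl : ∀ K ≤ G, IsPGroup p (H24.im f K) → K ≤ pCoreOf p K ⊔ kr f) : PP p (H24.im f G) (H24.im f R) = H24.im f (PP p G R) := by
  have c := cp.im f
  refine le_antisymm ?_ ?_
  · have n : ∀ {A}, A ≤ L → A ≤ N_(G) → A ≤ N_(R) → A ≤ N_(pCoreOf p (G ⊓ pre f (PP p (H24.im f G) (H24.im f R)))) :=
      fun h0 h1 h2 => _root_.H26.le_normalizer_pCoreOf' (H01.le_normalizer_inf h1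
        (le_normalizer_pre h0 (c.norm' (im_le_normalizer h1) (im_le_normalizer h2))))
    have e := im_inf_pre (c.PP_le (p := p)).1
    refine e.ge.trans ((im_le_im_iff (inf_le_left.trans hG) (cp.PP_le.1.trans hG)).2 ((hl _ inf_le_left
      (e.symm ▸ c.PP_le.2)).trans (sup_le_sup_right (cp.le_PP ((H02.pCoreOf_le _).trans inf_le_left)
      (H02.pCoreOf_isPGroup _) (n hR cp.nrm le_normalizer) (n (inf_le_left.trans hG) (inf_le_left.trans le_normalizer)
      (inf_le_right.trans (centralizer_le_normalizer _)))) _)))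
  · rintro _ ⟨x, hx, rfl⟩
    have e1 := map_subgroupOf_eq_of_le hG
    have e2 := map_subgroupOf_eq_of_le hR
    have c' : Cp (G.subgroupOf L) (R.subgroupOf L) := ⟨subgroupOf_le_normalizer cp.nrm, by
      rw [_root_.H26.card_subgroupOf hG, _root_.H26.card_subgroupOf hR]; exact cp.cop⟩
    exact c'.mem_map (mem_PP_of_map L.subtype_injective (by rwa [e1, e2]) (by rwa [e1, e2])) f

theorem im_pCoreOf (hG : G ≤ L) (hl : ∀ K ≤ G, IsPGroup p (im f K) → K ≤ pCoreOf p K ⊔ kr f) :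
    pCoreOf p (im f G) = im f (pCoreOf p G) := by
  refine le_antisymm ?_ (H02.le_pCoreOf (im_mono (H02.pCoreOf_le _)) (im_le_normalizer (H02.le_normalizer_pCoreOf _))
    (isPGroup_im (H02.pCoreOf_isPGroup _)))
  have e := im_inf_pre (H02.pCoreOf_le (p := p) (im f G))
  exact e.ge.trans ((im_le_im_iff (inf_le_left.trans hG) ((H02.pCoreOf_le _).trans hG)).2 ((hl _ inf_le_left
    (e.symm ▸ H02.pCoreOf_isPGroup _)).trans (sup_le_sup_right (_root_.H26.pCoreOf_le_of_normal inf_le_left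
    (H01.le_normalizer_inf le_normalizer (le_normalizer_pre hG (H02.le_normalizer_pCoreOf _)))) _)))

theorem im_kLo (hU : U ≤ L) (h : U ⊓ kr f = ⊥) : H17.kLo (im f U) = im f (H17.kLo U) := by
  have hj : Function.Injective (f.comp (inclusion hU)) := (injective_iff_map_eq_one _).2 fun x hx =>
    Subtype.ext (mem_bot.1 (h.le ⟨x.2, mem_kr.2 ⟨hU x.2, hx⟩⟩))
  have e : ∀ A : Subgroup U, im f (A.map U.subtype) = A.map (f.comp (inclusion hU)) := fun A => le_antisymm
    (by rintro _ ⟨x, ⟨y, hy, e⟩, rfl⟩; exact ⟨y, hy, congrArg f (Subtype.ext e)⟩)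
    (by rintro _ ⟨y, hy, rfl⟩; exact mem_im_of (mem_map_of_mem U.subtype hy) (hU y.2))
  rw [← H17.map_kInfLower U, e, ← H17.kLo_top, ← H17.kLo_map hj, ← e, H17.map_top_subtype]

end im

variable (h5 : 5 ≤ p) (cp : Cp G R) (hR : (Nat.card R).Coprime p)
include cp

theorem Cp.nil (hT : IsPGroup p T) (n2 : G ≤ N_(T)) (n3 : R ≤ N_(T)) (h : ⁅pResidualOf p G, R⁆ ≤ T) :
    ⁅G, R⁆ ≤ pCoreOf p G := by
  have hO := _root_.H26.pResidualOf_le (p := p) G
  have a : ⁅⁅G, R⁆, pResidualOf p G⁆ ≤ T := _root_.H26.three_subgroups n2 n3 (hO.trans n2)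
    ((commutator_mono ((commutator_comm _ _).le.trans h) le_rfl).trans (_root_.H26.commutator_le_of_le_normalizer n2))
    ((commutator_mono (_root_.H26.commutator_le_of_le_normalizer (_root_.H26.le_normalizer_pResidualOf G)) le_rfl).trans h)
  obtain ⟨S, s1, s2, -⟩ := (cp.of_le cp.comm_le (H01.right_le_normalizer_commutator G R)).syl (p := p) bot_le IsPGroup.of_bot
    (by rw [normalizer_eq_top]; exact le_top)
  have b : T ⊓ ⁅G, R⁆ ≤ S := s1.le_of_le_normalizer (hT.to_le inf_le_left) inf_le_right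
    (H01.le_normalizer_inf (s1.le.trans (cp.comm_le.trans n2)) (s1.le.trans le_normalizer))
  have m := _root_.H26.pResidualOf_mono (p := p) cp.comm_le
  have m' := _root_.H26.pResidualOf_le (p := p) ⁅G, R⁆
  refine H02.le_pCoreOf cp.comm_le (H01.left_le_normalizer_commutator G R) (s1.pg.to_le (cp.idem.trans
    ((commutator_mono s1.pResidualOf_sup.ge le_rfl).trans (_root_.H26.commutator_sup_le ?_ le_normalizer ?_
    (_root_.H26.commutator_le_of_le_normalizer s2)))))
  · exact _root_.H26.le_normalizer_of_commutator_le ((le_inf ((commutator_mono s1.le m).trans a)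
      ((commutator_mono s1.le m').trans (_root_.H26.commutator_le_of_le_normalizer le_normalizer))).trans b)
  · exact (le_inf ((commutator_mono m le_rfl).trans h) (commutator_mono (m.trans hO) le_rfl)).trans b

include h5 hR

theorem Cp.zj_cen (hc : ⁅G ⊓ C_(pCoreOf p G), G ⊔ R⁆ ≤ pCoreOf p G) : G ≤ N_(H17.kLo (PP p G R)) := by
  set T := pCoreOf p G
  set Z := pResidualOf p (G ⊓ C_(T))
  have hT : IsPGroup p T := H02.pCoreOf_isPGroup G
  have z1 : Z ≤ C_(G ⊔ R) := _root_.H26.pResidualOf_le_iff.2 fun x hx h =>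
    _root_.H26.mem_centralizer_of_two_step hT h (fun v hv => hc (commutator_mem_commutator hx hv)) hx.2
  have z2 : Z ≤ G := (_root_.H26.pResidualOf_le _).trans inf_le_left
  have z3 : Z ≤ C_(G) := z1.trans (_root_.H26.centralizer_anti le_sup_left)
  have z4 : ∀ {A : Subgroup X}, IsPGroup p A → A ⊓ Z = ⊥ := fun hA => by
    obtain ⟨S, hS⟩ := _root_.H26.exists_isSyl p Z
    have := hS.not_dvd_pResidualOf_of_central (z3.trans (_root_.H26.centralizer_anti (hS.le.trans z2)))
    rw [_root_.H26.pResidualOf_idem] at this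
    exact _root_.H26.eq_bot_of_isPGroup_of_not_dvd (hA.to_le inf_le_left) inf_le_right this
  have nL : G ⊔ R ≤ N_(Z) := (le_centralizer_iff.1 z1).trans (centralizer_le_normalizer _)
  have hG := le_sup_left.trans nL
  have hl : ∀ K ≤ G, IsPGroup p (H24.im (qm Z) K) → K ≤ pCoreOf p K ⊔ kr (qm Z) := fun K hK h => by
    obtain ⟨S, hS⟩ := _root_.H26.exists_isSyl p K
    have a : pResidualOf p K ≤ kr (qm Z) := _root_.H26.pResidualOf_le_iff.2 fun x hx hc => mem_kr.2 ⟨hG (hK hx),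
      _root_.H26.eq_one_of_mem_pGroup h (mem_im_of hx _) (hc.coprime_dvd_left
        ((orderOf_map_dvd _ _).trans (orderOf_mk _ _).dvd))⟩
    have b : K ≤ S ⊔ kr (qm Z) := hS.sup_pResidualOf.ge.trans (sup_le_sup_left a _)
    refine b.trans (sup_le_sup_right (H02.le_pCoreOf hS.le (b.trans (sup_le le_normalizer ?_)) hS.pg) _)
    rw [kr_qm]
    exact (z3.trans (_root_.H26.centralizer_anti (hS.le.trans hK))).trans (centralizer_le_normalizer _)
  have P1 := (cp.PP_le (p := p)).1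
  have P2 := (H17.kLo_le _).trans P1
  have P3 := cp.PP_le.2.to_le (H17.kLo_le (PP p G R))
  have h := (cp.im (qm Z)).flavell h5 (_root_.H26.isCharP_iff.2 (_root_.H26.isCharP_of_coprime ?_))
    (hR.coprime_dvd_left (card_im_dvd _))
  · rw [cp.im_PP hG (le_sup_right.trans nL) hl, im_kLo (P1.trans hG) (by rw [kr_qm]; exact z4 cp.PP_le.2)] at h
    have := le_normalizer_pre hG h
    rw [pre_im (P2.trans hG), kr_qm] at this
    refine H01.le_normalizer_of_conj_mem fun g hg x hx => ?_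
    have n : H17.kLo (PP p G R) ⊔ Z ≤ N_(H17.kLo (PP p G R)) :=
      sup_le le_normalizer ((z3.trans (_root_.H26.centralizer_anti P2)).trans (centralizer_le_normalizer _))
    have e := _root_.H26.cj_le_of_le_of_mem_normalizer le_sup_left (this hg)
    obtain ⟨a, ha, z, hz, e'⟩ := (_root_.H26.mem_sup_of_le_normalizer (P2.trans hG)).1 (e (_root_.H26.conj_mem_cj hx))
    have : z ∈ (⊥ : Subgroup X) := (z4 (_root_.H26.isPGroup_sup (_root_.H26.isPGroup_cj P3 g) P3 (e.trans n))).le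
      ⟨(Subgroup.mul_mem_cancel_left _ (mem_sup_right ha)).1 (e' ▸ mem_sup_left (_root_.H26.conj_mem_cj hx)), hz⟩
    rwa [← e', mem_bot.1 this, mul_one]
  · rintro _ ⟨x, hx, rfl⟩ h1 h2
    rw [im_pCoreOf hG hl] at h2
    have h3 : zpowers x.1 ≤ C_(T) := by
      rw [← commutator_eq_bot_iff_le_centralizer, eq_bot_iff, ← z4 hT]
      refine le_inf (_root_.H26.commutator_le_of_le_normalizer' (zpowers_le.2 (H02.le_normalizer_pCoreOf G hx))) ?_
      refine le_trans ((commutator_le_kr_iff (zpowers_le.2 x.2) ((H02.pCoreOf_le G).trans hG)).2 ?_) (kr_qm Z).le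
      rwa [im_zpowers x.2, zpowers_le]
    obtain ⟨k, hk⟩ := _root_.H26.exists_pow_mem_pResidualOf (p := p) (H := G ⊓ C_(T)) ⟨hx, h3 (mem_zpowers _)⟩
    refine _root_.H26.eq_one_of_coprime (n := p ^ k) ?_ (h1.pow_right k)
    rw [← map_pow]
    exact coe_mem_kr.1 ((kr_qm Z).ge hk)

theorem Cp.zj (hc : ⁅G ⊓ C_(pCoreOf p G), R⁆ ≤ pCoreOf p G) : G ≤ N_(H17.kLo (PP p G R)) := by
  have P1 := (cp.PP_le (p := p)).1
  have h1 : ⁅G, R⁆ ⊔ PP p G R ≤ G := sup_le cp.comm_le P1
  have nC : G ⊓ C_(R) ≤ N_(⁅G, R⁆ ⊔ PP p G R) :=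
    H01.le_normalizer_sup (inf_le_left.trans (H01.left_le_normalizer_commutator G R)) cp.norm
  have nG : G ≤ N_(⁅G, R⁆ ⊔ PP p G R) := cp.split.trans (sup_le (le_sup_left.trans le_normalizer) nC)
  have c := cp.of_le h1 (H01.le_normalizer_sup (H01.right_le_normalizer_commutator G R) cp.normR)
  have e1 : pCoreOf p (⁅G, R⁆ ⊔ PP p G R) = pCoreOf p G := by
    rw [_root_.H26.pCoreOf_eq_inf_of_normal h1 nG, inf_eq_right.2 (cp.pCoreOf_le.trans le_sup_right)]
  have e2 : PP p (⁅G, R⁆ ⊔ PP p G R) R = PP p G R := le_antisymm (cp.le_PP (c.PP_le.1.trans h1) c.PP_le.2 c.normR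
    (c.norm' nC (inf_le_right.trans (centralizer_le_normalizer _)))) fun x hx => cp.mem_sub hx h1 (mem_sup_right hx)
  have nT := H02.le_normalizer_pCoreOf (p := p) G
  have nR := _root_.H26.le_normalizer_pCoreOf' (p := p) cp.nrm
  have nD : G ≤ N_(G ⊓ C_(pCoreOf p G)) := H01.le_normalizer_inf le_normalizer (H01.le_normalizer_centralizer nT)
  have h := c.zj_cen h5 hR (by
    rw [e1]
    refine (commutator_mono (inf_le_inf_right _ h1) le_rfl).trans (_root_.H26.commutator_sup_le' (h1.trans nT) nR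
      (_root_.H26.commutator_sup_le' (cp.comm_le.trans nT) (P1.trans nT) ?_ ?_) hc)
    · rw [commutator_comm]
      exact _root_.H26.three_subgroups nT nR (inf_le_left.trans nT) ((commutator_mono ((commutator_comm _ _).le.trans hc)
        le_rfl).trans (_root_.H26.commutator_le_of_le_normalizer nT))
        ((commutator_mono (_root_.H26.commutator_le_of_le_normalizer nD) le_rfl).trans hc)
    · have n : G ⊓ C_(pCoreOf p G) ≤ N_(PP p G R) := (cp.of_le inf_le_left (H01.le_normalizer_inf cp.nrm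
        (H01.le_normalizer_centralizer nR))).split.trans (sup_le (hc.trans (cp.pCoreOf_le.trans le_normalizer))
        ((inf_le_inf_right _ inf_le_left).trans cp.norm))
      refine (le_inf (_root_.H26.commutator_le_of_le_normalizer (P1.trans nD))
        (_root_.H26.commutator_le_of_le_normalizer' n)).trans ((H02.le_pCoreOf inf_le_left
        (H01.le_normalizer_inf le_normalizer n) (cp.PP_le.2.to_le inf_le_right)).trans
        (_root_.H26.pCoreOf_le_of_normal inf_le_left nD)))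
  rw [e2] at h
  exact cp.split.trans (sup_le (le_sup_left.trans h) (cp.norm.trans (normalizer_le_kLo _)))

end Cfsg.Agent.H26.Cq
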