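import Mathlib
import Cfsg.Agent.H26.Cq7
import Cfsg.Agent.H26.PMin
import Cfsg.Agent.H01.Generation
import Cfsg.Agent.H22.FStar

/-!
Flavell's theorem on noncyclic abelian coprime operator groups (`Cp.good`): if `[C_H(O_p(H)), R] ≤ O_p(H)` for all
`H = C_G(b)`, `b ∈ R#`, then the same holds for `H = G`.
-/

set_option autoImplicit false
set_option linter.unusedSectionVars false

namespace Cfsg.Agent.H26.Cq

open Cfsg Subgroup H24
open scoped commutatorElement

universe u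

local notation:max "N_(" A ")" => Subgroup.normalizer (SetLike.coe A)
local notation:max "C_(" A ")" => Subgroup.centralizer (SetLike.coe A)

variable {p : ℕ} [hp : Fact p.Prime] {X : Type u} [Group X] [Finite X] {G R H T K L D U W Z A : Subgroup X}

/-- the relative K-infinity subgroup -/
noncomputable def kap (Z U : Subgroup X) : Subgroup X := pre (qm Z) (H17.kLo (im (qm Z) U))

theorem le_kap : Z ≤ kap Z U := (kr_qm Z).ge.trans (kr_le_pre _)

theorem kap_le (h1 : Z ≤ U) (h2 : U ≤ N_(Z)) : kap Z U ≤ U := pre_le_of_le_im h2 ((kr_qm Z).le.trans h1) (H17.kLo_le _)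

theorem kap_not_le (hU : IsPGroup p U) (h1 : ¬ U ≤ Z) (h2 : U ≤ N_(Z)) : ¬ kap Z U ≤ Z := fun h =>
  _root_.H26.center_ne_bot (isPGroup_im (f := qm Z) hU) (fun e => h1 (((im_eq_bot_iff h2).1 e).trans (kr_qm Z).le))
    (eq_bot_iff.2 ((H17.center_le_kLo _).trans ((im_pre (H17.kLo_le _)).ge.trans
    ((im_eq_bot_iff (pre_le _)).2 (h.trans (kr_qm Z).ge)).le)))

theorem norm_kap (h1 : A ≤ N_(Z)) (h2 : A ≤ N_(U)) : A ≤ N_(kap Z U) :=
  le_normalizer_pre h1 ((im_le_normalizer h2).trans (normalizer_le_kLo _))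

theorem Cp.zj_rel (h5 : 5 ≤ p) (cp : Cp G R) (hR : (Nat.card R).Coprime p) (hZ : IsPGroup p Z) (z2 : G ≤ C_(Z))
    (z3 : R ≤ N_(Z)) (hc : ⁅G ⊓ C_(pCoreOf p G), R⁆ ≤ pCoreOf p G) : G ≤ N_(kap Z (PP p G R)) := by
  have hG := z2.trans (centralizer_le_normalizer _)
  have hl : ∀ K ≤ G, IsPGroup p (H24.im (qm Z) K) → K ≤ pCoreOf p K ⊔ kr (qm Z) := fun K hK h =>
    (_root_.H26.pCoreOf_eq_self (isPGroup_of_im (hK.trans hG) h (hZ.to_le (inf_le_right.trans (kr_qm Z).le)))).ge.trans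
      le_sup_left
  have h := (cp.im (qm Z)).zj h5 (hR.coprime_dvd_left (card_im_dvd _)) ?_
  · rw [cp.im_PP hG z3 hl] at h
    exact le_normalizer_pre hG h
  rw [im_pCoreOf hG hl]
  set T := pCoreOf p G
  have nT : G ≤ N_(T) := H02.le_normalizer_pCoreOf G
  have nR : R ≤ N_(T) := _root_.H26.le_normalizer_pCoreOf' cp.nrm
  have n : ∀ {A}, A ≤ N_(Z) → A ≤ N_(G) → A ≤ N_(T) →
      A ≤ N_(G ⊓ pre (qm Z) (H24.im (qm Z) G ⊓ C_(H24.im (qm Z) T))) := fun h0 h1 h2 => H01.le_normalizer_inf h1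
    (le_normalizer_pre h0 (H01.le_normalizer_inf (im_le_normalizer h1) (H01.le_normalizer_centralizer (im_le_normalizer h2))))
  have e := im_inf_pre (inf_le_left : H24.im (qm Z) G ⊓ C_(H24.im (qm Z) T) ≤ _)
  rw [← e, ← im_commutator (inf_le_left.trans hG) z3]
  refine im_mono (((cp.of_le inf_le_left (n z3 cp.nrm nR)).nil (H02.pCoreOf_isPGroup G) (inf_le_left.trans nT) nR ?_).trans
    (_root_.H26.pCoreOf_le_of_normal inf_le_left (n hG le_normalizer nT)))
  refine le_trans (commutator_mono (_root_.H26.pResidualOf_le_iff.2 fun x hx h => mem_inf.2 ⟨(mem_inf.1 hx).1, ?_⟩) le_rfl) hc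
  exact _root_.H26.mem_centralizer_of_two_step hZ h (fun v hv => (kr_qm Z).le ((commutator_le_kr_iff (inf_le_left.trans hG)
    ((H02.pCoreOf_le G).trans hG)).2 (e.le.trans inf_le_right) (commutator_mem_commutator hx hv))) (z2 hx.1)

/-- `W` is a `p`-subgroup of `G` invariant under `R C_G(R)` -/
structure Iv (p : ℕ) (G R W : Subgroup X) : Prop where
  le : W ≤ G
  pg : IsPGroup p W
  nrm : R ⊔ G ⊓ C_(R) ≤ N_(W)

theorem Cp.nG (cp : Cp G R) : R ⊔ G ⊓ C_(R) ≤ N_(G) := sup_le cp.nrm (inf_le_left.trans le_normalizer)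

theorem nR : R ⊔ G ⊓ C_(R) ≤ N_(R) := sup_le le_normalizer (inf_le_right.trans (centralizer_le_normalizer _))

theorem Cp.iv_le (cp : Cp H R) (hH : H ≤ G) (h : Iv p G R U) (h1 : U ≤ H) : U ≤ PP p H R :=
  cp.le_PP h1 h.pg (le_sup_left.trans h.nrm) (((inf_le_inf_right _ hH).trans le_sup_right).trans h.nrm)

theorem Cp.iv_sup (cp : Cp G R) (h1 : Iv p G R U) (h2 : Iv p G R W) : Iv p G R (U ⊔ W) :=
  ⟨sup_le h1.le h2.le, cp.PP_le.2.to_le (sup_le (cp.iv_le le_rfl h1 h1.le) (cp.iv_le le_rfl h2 h2.le)),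
    H01.le_normalizer_sup h1.nrm h2.nrm⟩

theorem iv_core (h1 : H ≤ G) (h2 : R ⊔ G ⊓ C_(R) ≤ N_(H)) : Iv p G R (pCoreOf p H) :=
  ⟨(H02.pCoreOf_le H).trans h1, H02.pCoreOf_isPGroup H, _root_.H26.le_normalizer_pCoreOf' h2⟩

theorem Cp.iv_PP (cp : Cp G R) (h1 : H ≤ G) (h2 : R ⊔ G ⊓ C_(R) ≤ N_(H)) : Iv p G R (PP p H R) :=
  have c := cp.of_le h1 (le_sup_left.trans h2)
  ⟨c.PP_le.1.trans h1, c.PP_le.2, c.norm' h2 nR⟩

section main
variable (h5 : 5 ≤ p) (cp : Cp G R) (hW : Iv p G R W)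
  (ih : ∀ U, W < U → Iv p G R U → pCoreOf p (G ⊓ C_(U)) ≤ U → ⁅G ⊓ C_(U), R⁆ ≤ U)
include h5 cp hW ih

theorem Cp.loc (Q : Subgroup X) : ∀ U, Iv p G R U → W ⊓ C_(W) ≤ U → ¬ U ≤ W ⊓ C_(W) → U ≤ G ⊓ C_(W) →
    PP p (G ⊓ C_(W) ⊓ N_(U)) R = Q → G ⊓ C_(W) ⊓ N_(U) ≤ N_(kap (W ⊓ C_(W)) (PP p (G ⊓ C_(W)) R)) := by
  induction Q using WellFoundedGT.induction with | _ Q ih' => ?_
  intro U hU u1 u2 u3 hQ
  have nC := H01.le_normalizer_centralizer hW.nrm
  have n1 := H01.le_normalizer_inf cp.nG nC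
  have nZ := H01.le_normalizer_inf hW.nrm nC
  have n2 := H01.le_normalizer_inf n1 (H01.le_normalizer_normalizer hU.nrm)
  have zc : G ⊓ C_(W) ≤ C_(W ⊓ C_(W)) := inf_le_right.trans (_root_.H26.centralizer_anti inf_le_left)
  have zn := zc.trans (centralizer_le_normalizer _)
  set Y := G ⊓ C_(W) ⊓ N_(U) with hY
  have y1 : Y ≤ G := inf_le_left.trans inf_le_left
  have c := cp.of_le y1 (le_sup_left.trans n2)
  have uT : U ≤ pCoreOf p Y := H02.le_pCoreOf (le_inf u3 le_normalizer) inf_le_right hU.pg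
  have t1 : pCoreOf p Y ≤ G ⊓ C_(W) := (H02.pCoreOf_le Y).trans inf_le_left
  have e : G ⊓ C_(pCoreOf p Y ⊔ W) = Y ⊓ C_(pCoreOf p Y) := by
    rw [_root_.H26.centralizer_sup]
    exact le_antisymm (fun x hx => ⟨⟨⟨hx.1, hx.2.2⟩, centralizer_le_normalizer _ (_root_.H26.centralizer_anti uT hx.2.1)⟩,
      hx.2.1⟩) fun x hx => ⟨hx.1.1.1, hx.2, hx.1.1.2⟩
  have h1 := ih _ (lt_of_le_of_ne le_sup_right fun e => u2 (le_inf ((uT.trans le_sup_left).trans e.ge)
    (u3.trans inf_le_right))) (cp.iv_sup (iv_core y1 n2) hW) (by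
      rw [e]
      exact (_root_.H26.pCoreOf_le_of_normal inf_le_left (H01.le_normalizer_inf le_normalizer
        (H01.le_normalizer_centralizer (H02.le_normalizer_pCoreOf Y)))).trans le_sup_left)
  rw [e] at h1
  have h2 := c.zj_rel h5 (cp.cop.coprime_dvd_right (_root_.H26.dvd_card_of_isPGroup hU.pg (fun e => u2 (e ▸ bot_le)) hU.le))
    (hW.pg.to_le inf_le_left) (inf_le_left.trans zc) (le_sup_left.trans nZ) (by
      have := le_inf ((commutator_mono inf_le_left le_rfl).trans (c.comm_le.trans inf_le_left)) h1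
      rw [_root_.H26.inf_sup_eq_of_le_normalizer (t1.trans (inf_le_right.trans (centralizer_le_normalizer _))) t1] at this
      exact this.trans (sup_le le_rfl (le_trans (fun x hx => mem_inf.2 ⟨hx.2, hx.1.2⟩) (u1.trans uT))))
  have q := cp.iv_PP (p := p) y1 n2
  have q1 := uT.trans c.pCoreOf_le
  have q2 := (c.PP_le (p := p)).1.trans inf_le_left
  rw [hQ] at h2 q q1 q2
  have c1 := cp.of_le inf_le_left (le_sup_left.trans n1)
  rcases (c1.iv_le inf_le_left q q2).lt_or_eq with h | h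
  · have k1 := kap_le (u1.trans q1) (q2.trans zn)
    have k2 : Iv p G R (kap (W ⊓ C_(W)) Q) := ⟨k1.trans q.le, q.pg.to_le k1, norm_kap nZ q.nrm⟩
    refine (le_inf inf_le_left h2).trans (ih' _ ((_root_.H26.lt_inf_normalizer c1.PP_le.2 h).trans_le fun x hx =>
      c1.mem_sub hx.1 inf_le_left ⟨c1.PP_le.1 hx.1, norm_kap (inf_le_left.trans (c1.PP_le.1.trans zn)) inf_le_right hx⟩) _
      k2 le_kap (kap_not_le q.pg (fun e => u2 (q1.trans e)) (q2.trans zn)) (k1.trans q2) rfl)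
  · exact h ▸ h2

theorem Cp.step [IsMulCommutative R] (hnc : ¬ IsCyclic R) (hyp : ∀ b ∈ R, b ≠ 1 →
    ⁅G ⊓ centralizer {b} ⊓ C_(pCoreOf p (G ⊓ centralizer {b})), R⁆ ≤ pCoreOf p (G ⊓ centralizer {b}))
    (hc : pCoreOf p (G ⊓ C_(W)) ≤ W) : ⁅G ⊓ C_(W), R⁆ ≤ W := by
  have nC := H01.le_normalizer_centralizer hW.nrm
  have n1 := H01.le_normalizer_inf cp.nG nC
  have nZ := H01.le_normalizer_inf hW.nrm nC
  have zc : G ⊓ C_(W) ≤ C_(W ⊓ C_(W)) := inf_le_right.trans (_root_.H26.centralizer_anti inf_le_left)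
  have zn := zc.trans (centralizer_le_normalizer _)
  have c1 := cp.of_le inf_le_left (le_sup_left.trans n1)
  have key : ∀ b ∈ R, b ≠ 1 → Cp (G ⊓ C_(W) ⊓ centralizer {b}) R ∧ (⁅G ⊓ C_(W) ⊓ centralizer {b}, R⁆ ≤ W ⊓ C_(W) ∨
      ∃ U, Iv p G R U ∧ W ⊓ C_(W) ≤ U ∧ ¬ U ≤ W ⊓ C_(W) ∧ U ≤ G ⊓ C_(W) ∧ G ⊓ C_(W) ⊓ centralizer {b} ≤ N_(U)) := by
    intro b hb h1
    have nb : R ⊔ G ⊓ C_(R) ≤ N_(centralizer ({b} : Set X)) := le_trans (sup_le (fun a ha => mem_centralizer_singleton_iff.2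
      (congrArg Subtype.val (mul_comm' (⟨a, ha⟩ : R) ⟨b, hb⟩))) fun a ha => mem_centralizer_singleton_iff.2
      (ha.2 b hb).symm) le_normalizer
    have n2 := H01.le_normalizer_inf n1 nb
    set L := G ⊓ C_(W) ⊓ centralizer {b}
    have l1 : L ≤ G := inf_le_left.trans inf_le_left
    have l2 : L ≤ G ⊓ centralizer {b} := le_inf l1 inf_le_right
    have c := cp.of_le l1 (le_sup_left.trans n2)
    have y := cp.iv_sup (cp.iv_sup (iv_core inf_le_left (H01.le_normalizer_inf cp.nG nb)) hW) (iv_core l1 n2)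
    have nY := H01.le_normalizer_sup (H01.le_normalizer_sup (l2.trans (H02.le_normalizer_pCoreOf (p := p) _))
      ((inf_le_left.trans inf_le_right : L ≤ C_(W)).trans (centralizer_le_normalizer _))) (H02.le_normalizer_pCoreOf (p := p) L)
    set Y := pCoreOf p (G ⊓ centralizer {b}) ⊔ W ⊔ pCoreOf p L
    have w : W ≤ Y := le_sup_right.trans le_sup_left
    refine ⟨c, or_iff_not_imp_right.2 fun h => ?_⟩
    have u : Y ⊓ C_(W) ≤ W ⊓ C_(W) := by
      by_contra u
      exact h ⟨_, ⟨inf_le_left.trans y.le, y.pg.to_le inf_le_left, H01.le_normalizer_inf y.nrm nC⟩, inf_le_inf_right _ w, u,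
        inf_le_inf_right _ y.le, H01.le_normalizer_inf nY ((inf_le_left.trans inf_le_right).trans le_normalizer)⟩
    have v : L ≤ C_(W) := inf_le_left.trans inf_le_right
    refine (c.nil (hW.pg.to_le inf_le_left) (inf_le_left.trans zn) (le_sup_left.trans nZ) (le_trans (le_inf
      ((commutator_mono (_root_.H26.pResidualOf_le_iff.2 fun x hx h => mem_inf.2 ⟨l2 hx, _root_.H26.centralizer_anti
        (le_sup_left.trans le_sup_left) (_root_.H26.mem_centralizer_of_selfCentralizing y.pg h (nY hx) w (v hx)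
        (u.trans inf_le_left))⟩) le_rfl).trans ((hyp b hb h1).trans (le_sup_left.trans le_sup_left)))
      ((commutator_mono (_root_.H26.pResidualOf_le _) le_rfl).trans (c.comm_le.trans v))) u)).trans
      ((le_inf le_sup_right ((H02.pCoreOf_le L).trans v)).trans u)
  have v := cp.iv_PP (p := p) inf_le_left n1
  by_cases hV : PP p (G ⊓ C_(W)) R ≤ W ⊓ C_(W)
  · refine (_root_.H26.le_commKer_iff.1 (H01.le_of_centralizer_le_of_not_isCyclic hnc c1.nrm c1.cop fun b hb h1 =>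
      _root_.H26.le_commKer_iff.2 ⟨inf_le_left.trans zn, (key b hb h1).2.resolve_right ?_⟩)).2.trans inf_le_left
    rintro ⟨U, u1, -, u2, u3, -⟩
    exact u2 ((c1.iv_le inf_le_left u1 u3).trans hV)
  have z : W ⊓ C_(W) ≤ PP p (G ⊓ C_(W)) R :=
    c1.iv_le inf_le_left ⟨inf_le_left.trans hW.le, hW.pg.to_le inf_le_left, nZ⟩ (inf_le_inf_right _ hW.le)
  have k1 := (kap_le z (c1.PP_le.1.trans zn))
  refine (kap_not_le v.pg hV (c1.PP_le.1.trans zn) (le_inf ((H02.le_pCoreOf (k1.trans c1.PP_le.1)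
    (H01.le_of_centralizer_le_of_not_isCyclic hnc c1.nrm c1.cop fun b hb h1 => ?_) (v.pg.to_le k1)).trans hc)
    (k1.trans (c1.PP_le.1.trans inf_le_right)))).elim
  obtain ⟨c, h | ⟨U, u1, u2, u3, u4, u5⟩⟩ := key b hb h1
  · exact c.split.trans (sup_le (h.trans (le_kap.trans le_normalizer)) (((inf_le_inf_right _
      (inf_le_left.trans inf_le_left)).trans le_sup_right).trans (norm_kap nZ v.nrm)))
  · exact (le_inf inf_le_left u5).trans (cp.loc h5 hW ih _ U u1 u2 u3 u4 rfl)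

end main

theorem Cp.good (h5 : 5 ≤ p) (cp : Cp G R) [IsMulCommutative R] (hnc : ¬ IsCyclic R) (hyp : ∀ b ∈ R, b ≠ 1 →
    ⁅G ⊓ centralizer {b} ⊓ C_(pCoreOf p (G ⊓ centralizer {b})), R⁆ ≤ pCoreOf p (G ⊓ centralizer {b})) :
    ⁅G ⊓ C_(pCoreOf p G), R⁆ ≤ pCoreOf p G := by
  have : ∀ W, Iv p G R W → pCoreOf p (G ⊓ C_(W)) ≤ W → ⁅G ⊓ C_(W), R⁆ ≤ W := fun W => by
    induction W using WellFoundedGT.induction with | _ W ih => ?_
    exact fun hW => cp.step h5 hW ih hnc hyp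
  exact this _ (iv_core le_rfl cp.nG) (_root_.H26.pCoreOf_le_of_normal inf_le_left (H01.le_normalizer_inf le_normalizer
    (H01.le_normalizer_centralizer (H02.le_normalizer_pCoreOf G))))

theorem fstar_facts (H : Subgroup X) : H22.fstarOf H ≤ pCoreOf p H ⊔ pResidualOf p (H22.fstarOf H) ∧
    pResidualOf p (H22.fstarOf H) ≤ C_(pCoreOf p H) := by
  have f := H02.fitting_le_pCore_sup_pPrimeCore (G := H) hp.out
  have a : generalizedFittingSubgroup H ≤ pCore p H ⊔ pResidualOf p (generalizedFittingSubgroup H) := by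
    refine sup_le (le_trans ?_ le_sup_right) ?_
    · rw [← _root_.H26.pResidualOf_eq_of_perfect (p := p) (K := layer H) H22.layer_perfect]
      exact _root_.H26.pResidualOf_mono le_sup_left
    · obtain ⟨S, hS⟩ := _root_.H26.exists_isSyl p (fittingSubgroup H)
      exact hS.sup_pResidualOf.ge.trans (sup_le_sup (H02.le_pCore_of_le_fitting hp.out hS.pg hS.le)
        (_root_.H26.pResidualOf_mono le_sup_right))
  have b : pResidualOf p (generalizedFittingSubgroup H) ≤ C_(pCore p H) := by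
    refine (_root_.H26.pResidualOf_mono (H := pCore p H ⊔ C_(pCore p H)) (sup_le (H22.layer_le_centralizer_pCore.trans
      le_sup_right) (f.trans (sup_le_sup_left (H02.pPrimeCore_le_centralizer_pCore p H) _)))).trans ?_
    rw [_root_.H26.pResidualOf_sup_eq (H02.pCore_isPGroup p H) le_normalizer_of_normal]
    exact _root_.H26.pResidualOf_le _
  rw [_root_.H26.pResidualOf_map_inj H.subtype_injective]
  exact ⟨(map_mono a).trans (Subgroup.map_sup _ _ _).le, (map_mono b).trans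
    ((_root_.H26.map_subtype_centralizer _).le.trans inf_le_right)⟩

theorem Cp.good_of (cp : Cp H R) (h : R ≤ C_(pResidualOf p (H22.fstarOf H))) :
    ⁅H ⊓ C_(pCoreOf p H), R⁆ ≤ pCoreOf p H := by
  obtain ⟨f1, f2⟩ := fstar_facts (p := p) H
  have nT := H02.le_normalizer_pCoreOf (p := p) H
  have nR := _root_.H26.le_normalizer_pCoreOf' (p := p) cp.nrm
  have nJ : H ≤ N_(pResidualOf p (H22.fstarOf H)) :=
    _root_.H26.le_normalizer_pResidualOf' (le_normalizer.trans (H22.normalizer_le_normalizer_fstarOf H))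
  have c := cp.of_le inf_le_left (H01.le_normalizer_inf cp.nrm (H01.le_normalizer_centralizer nR))
  have a : ⁅H ⊓ C_(pCoreOf p H), R⁆ ≤ C_(pCoreOf p H ⊔ pResidualOf p (H22.fstarOf H)) := by
    rw [_root_.H26.centralizer_sup]
    exact le_inf (c.comm_le.trans inf_le_right) ((commutator_mono inf_le_left h).trans
      (_root_.H26.commutator_le_of_le_normalizer' (H01.le_normalizer_centralizer nJ)))
  refine c.idem.trans ((commutator_mono (((le_inf (c.comm_le.trans inf_le_left) (a.trans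
    (_root_.H26.centralizer_anti f1))).trans (H22.inf_centralizer_fstarOf_le H)).trans
    ((le_sup_right.trans (H22.fstarOf_eq H).ge).trans f1)) le_rfl).trans (_root_.H26.commutator_sup_le le_normalizer
    (f2.trans (centralizer_le_normalizer _)) (_root_.H26.commutator_le_of_le_normalizer nR) ?_))
  rw [_root_.H26.commutator_eq_bot_iff'.2 h]
  exact bot_le

theorem of_good (h : ⁅H ⊓ C_(pCoreOf p H), R⁆ ≤ pCoreOf p H) : R ≤ C_(pResidualOf p (H22.fstarOf H)) :=
  le_centralizer_iff.1 (_root_.H26.pResidualOf_le_iff.2 fun x hx hc =>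
    have a := (fstar_facts (p := p) H).2 (_root_.H26.mem_pResidualOf hx hc)
    _root_.H26.mem_centralizer_of_two_step (H02.pCoreOf_isPGroup H) hc
      (fun _ hv => h (commutator_mem_commutator ⟨H22.fstarOf_le H hx, a⟩ hv)) a)

end Cfsg.Agent.H26.Cq
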