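import Mathlib

/-!
Facts about `S₆` for part (B1) of the `S₈` characterization.
-/

set_option autoImplicit false
set_option synthInstance.maxSize 8000
set_option maxRecDepth 100000

namespace Cfsg.Agent.H26.Dm
open Equiv Subgroup

/-- the third commuting class member -/
def Pr {S : Type*} [Group S] (a b y : S) : Prop := ∃ c h h' g : S, h * a * h⁻¹ = c ∧ h * b * h⁻¹ = b ∧ h' * a * h'⁻¹ = a ∧
  h' * c * h'⁻¹ = b ∧ a * c * a⁻¹ = c ∧ b * c * b⁻¹ = c ∧ c ≠ a ∧ c ≠ b ∧ a * b * c ≠ 1 ∧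
  g * (a * b * c) * g⁻¹ * y = y * (g * (a * b * c) * g⁻¹) ∧
  ∀ k, k * c * k⁻¹ * a = a * (k * c * k⁻¹) → k * c * k⁻¹ * b = b * (k * c * k⁻¹) →
    k * c * k⁻¹ = a ∨ k * c * k⁻¹ = b ∨ k * c * k⁻¹ = c

theorem Pr.tr {S : Type*} [Group S] {a b y : S} (e : S ≃* S) (p : Pr (e a) (e b) (e y)) : Pr a b y := by
  obtain ⟨c, h, h', g, p1, p2, p3, p4, p5, p6, p7, p8, p9, p10, p11⟩ := p
  obtain ⟨c, rfl⟩ := e.surjective c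
  obtain ⟨h, rfl⟩ := e.surjective h
  obtain ⟨h', rfl⟩ := e.surjective h'
  obtain ⟨g, rfl⟩ := e.surjective g
  have p12 := fun k => p11 (e k)
  simp only [← map_mul, ← map_inv, e.injective.eq_iff, ne_eq, MulEquiv.map_eq_one_iff] at *
  exact ⟨c, h, h', g, p1, p2, p3, p4, p5, p6, p7, p8, p9, p10, p12⟩

abbrev S6 := Perm (Fin 6)

def r1 : S6 := swap 0 1 * swap 1 2
def q1 : S6 := swap 3 4 * swap 4 5
def sa1 : S6 := swap 1 2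
def sb1 : S6 := swap 4 5
def r2 : S6 := swap 0 1 * swap 1 2 * swap 3 4 * swap 4 5
def q2 : S6 := swap 0 1 * swap 1 2 * swap 3 5 * swap 4 5
def sa2 : S6 := swap 0 3 * swap 1 5 * swap 2 4
def sb2 : S6 := swap 0 3 * swap 1 4 * swap 2 5

theorem pr1 : Pr sa1 sb1 (r1 * q1) := ⟨swap 0 3, swap 0 1 * swap 2 3, swap 0 4 * swap 3 5, swap 2 3 * swap 3 5 * swap 4 5,
  by decide +kernel⟩
theorem pr2 : Pr sa2 sb2 (r2 * q2) := ⟨swap 0 3 * swap 1 2 * swap 4 5, swap 2 5, swap 2 4,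
  swap 0 3 * swap 1 3 * swap 2 3 * swap 3 4, by decide +kernel⟩

/-- the normalizer as a list -/
def NL (r q a b : S6) : List S6 := [1, r, r * r].flatMap fun x => [1, q, q * q].flatMap fun y => [x * y, x * y * a, x * y * b, x * y * a * b]

theorem n1 : ∀ x : S6, x * r1 * x⁻¹ = r1 ∨ x * r1 * x⁻¹ = r1⁻¹ → x ∈ NL r1 q1 sa1 sb1 := by decide +kernel
theorem n2 : ∀ x : S6, x * r2 * x⁻¹ = r2 ∨ x * r2 * x⁻¹ = r2⁻¹ → x ∈ NL r2 q2 sa2 sb2 := by decide +kernel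

theorem m1 : ∀ q ∈ NL r1 q1 sa1 sb1, q ^ 3 = 1 → q ≠ 1 → ∀ a ∈ NL r1 q1 sa1 sb1, a * a = 1 → a * r1 * a⁻¹ = r1⁻¹ → a * q * a⁻¹ = q →
    ∀ b ∈ NL r1 q1 sa1 sb1, b * b = 1 → b * r1 * b⁻¹ = r1 → b * q * b⁻¹ = q⁻¹ →
      ∃ x ∈ NL r1 q1 sa1 sb1, x * a * x⁻¹ = sa1 ∧ x * b * x⁻¹ = sb1 ∧ x * (r1 * q) * x⁻¹ = r1 * q1 := by decide +kernel
theorem m2 : ∀ q ∈ NL r2 q2 sa2 sb2, q ^ 3 = 1 → q ≠ 1 → ∀ a ∈ NL r2 q2 sa2 sb2, a * a = 1 → a * r2 * a⁻¹ = r2⁻¹ → a * q * a⁻¹ = q →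
    ∀ b ∈ NL r2 q2 sa2 sb2, b * b = 1 → b * r2 * b⁻¹ = r2 → b * q * b⁻¹ = q⁻¹ →
      ∃ x ∈ NL r2 q2 sa2 sb2, x * a * x⁻¹ = sa2 ∧ x * b * x⁻¹ = sb2 ∧ x * (r2 * q) * x⁻¹ = r2 * q2 := by decide +kernel

theorem o12 : r1 ^ 3 = 1 ∧ r1 ≠ 1 ∧ r2 ^ 3 = 1 ∧ r2 ≠ 1 ∧ r1.support.card = 3 ∧ r2.support.card = 6 := by decide +kernel

theorem ct3 {r : S6} (h3 : r ^ 3 = 1) (h1 : r ≠ 1) : ∃ n, r.cycleType = Multiset.replicate (n + 1) 3 ∧ r.support.card = (n + 1) * 3 := by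
  have := Fact.mk Nat.prime_three
  have o : orderOf r = 3 := orderOf_eq_prime h3 h1
  obtain ⟨n, hn⟩ := Perm.cycleType_prime_order (σ := r) (o ▸ Nat.prime_three)
  rw [o] at hn
  exact ⟨n, hn, by rw [← Perm.sum_cycleType, hn, Multiset.sum_replicate, smul_eq_mul]⟩

theorem cj3 {r : S6} (h3 : r ^ 3 = 1) (h1 : r ≠ 1) : IsConj r r1 ∨ IsConj r r2 := by
  obtain ⟨n, a, b⟩ := ct3 h3 h1
  obtain ⟨n1, a1, b1⟩ := ct3 o12.1 o12.2.1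
  obtain ⟨n2, a2, b2⟩ := ct3 o12.2.2.1 o12.2.2.2.1
  have l : r.support.card ≤ 6 := (Finset.card_le_univ _).trans (by simp)
  rw [o12.2.2.2.2.1] at b1
  rw [o12.2.2.2.2.2] at b2
  rw [Perm.isConj_iff_cycleType_eq, Perm.isConj_iff_cycleType_eq, a, a1, a2]
  have : n = n1 ∨ n = n2 := by omega
  rcases this with rfl | rfl
  exacts [.inl rfl, .inr rfl]

theorem pr {r q a b : S6} (h3 : r ^ 3 = 1) (h1 : r ≠ 1) (k3 : q ^ 3 = 1) (k1 : q ≠ 1) (c : q * r * q⁻¹ = r)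
    (aa : a * a = 1) (ar : a * r * a⁻¹ = r⁻¹) (aq : a * q * a⁻¹ = q) (bb : b * b = 1) (br : b * r * b⁻¹ = r)
    (bq : b * q * b⁻¹ = q⁻¹) : Pr a b (r * q) := by
  have key : ∀ e : S6 ≃* S6, (e q) ^ 3 = 1 ∧ e q ≠ 1 ∧ e q * e r * (e q)⁻¹ = e r ∧ e a * e a = 1 ∧ e a * e r * (e a)⁻¹ = (e r)⁻¹ ∧
      e a * e q * (e a)⁻¹ = e q ∧ e b * e b = 1 ∧ e b * e r * (e b)⁻¹ = e r ∧ e b * e q * (e b)⁻¹ = (e q)⁻¹ := fun e => by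
    simp only [← map_mul, ← map_inv, ← map_pow, e.injective.eq_iff, ne_eq, MulEquiv.map_eq_one_iff]
    exact ⟨k3, k1, c, aa, ar, aq, bb, br, bq⟩
  rcases cj3 h3 h1 with i | i <;> obtain ⟨g, hg⟩ := isConj_iff.1 i <;>
    obtain ⟨p1, p2, p3, p4, p5, p6, p7, p8, p9⟩ := key (MulAut.conj g) <;>
    rw [show MulAut.conj g r = _ from hg] at p3 p5 p8 <;> refine Pr.tr (MulAut.conj g) ?_ <;>
    rw [map_mul, show MulAut.conj g r = _ from hg]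
  · obtain ⟨x, -, x1, x2, x3⟩ := m1 _ (n1 _ (.inl p3)) p1 p2 _ (n1 _ (.inr p5)) p4 p5 p6 _ (n1 _ (.inl p8)) p7 p8 p9
    refine Pr.tr (MulAut.conj x) ?_
    rw [MulAut.conj_apply x, MulAut.conj_apply x, MulAut.conj_apply x, x1, x2, x3]
    exact pr1
  · obtain ⟨x, -, x1, x2, x3⟩ := m2 _ (n2 _ (.inl p3)) p1 p2 _ (n2 _ (.inr p5)) p4 p5 p6 _ (n2 _ (.inl p8)) p7 p8 p9
    refine Pr.tr (MulAut.conj x) ?_
    rw [MulAut.conj_apply x, MulAut.conj_apply x, MulAut.conj_apply x, x1, x2, x3]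
    exact pr2

end Cfsg.Agent.H26.Dm
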