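import Cfsg.Agent.H19.Dm0
import Cfsg.Agent.H26.DmS6

/-!
Part (B1) of the `S₈` characterization.
-/

set_option autoImplicit false
set_option synthInstance.maxSize 4000

namespace Cfsg.Agent.H26.Dm
open H19.Dm Equiv Subgroup

theorem bf : z * t = t * z ∧ z' * t = t * z' ∧ u * t = t * u ∧ w * t = t * w ∧ z ^ 3 = 1 ∧ z' ^ 3 = 1 ∧ z ≠ 1 ∧ z ≠ t ∧
    z' ≠ 1 ∧ z' ≠ t ∧ z' * z * z'⁻¹ = z ∧ w * w = 1 ∧ w * z * w⁻¹ = z⁻¹ ∧ w * z' * w⁻¹ = z' ∧ u * u = 1 ∧ u * z * u⁻¹ = z ∧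
    u * z' * u⁻¹ = z'⁻¹ := by decide +kernel
theorem bg : v * t * v⁻¹ = u * t ∧ v * u * v⁻¹ = u ∧ v * w * v⁻¹ = w ∧ v * (w * u * t) * v⁻¹ = w * t ∧ t * t = 1 ∧
    (z * z') ^ 3 = 1 ∧ (z * z' * t) ^ 3 = t ∧ t ≠ 1 ∧ u * (u * t) = t ∧ v * (u * t) * v⁻¹ = t ∧ u * w = w * u ∧ v * v = 1 := by
  decide +kernel

variable {G : Type*} [Group G] {F : P35 →* G} {s : G}

theorem b1 (h : Hy F s) (cb : CB F s) (ct : CT F s) : ¬ PI F := by
  rintro ⟨π, su, ker⟩
  obtain ⟨zt, z't, ut, wt, z3, z'3, z1, zt', z'1, z't', f1, f2, f3, f4, f5, f6, f7⟩ := bf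
  obtain ⟨g1, g2, g3, g4, g5, g6, g7, g8, g9, g10, g11, g12⟩ := bg
  have mk : ∀ {x : P35}, x * t = t * x → F x ∈ centralizer ({F t} : Set G) := fun e =>
    mem_centralizer_singleton_iff.2 (by rw [← map_mul, ← map_mul, e])
  have cF : ∀ {x a b : P35}, x * a * x⁻¹ = b → F x * F a * (F x)⁻¹ = F b := fun e => by rw [← e, map_mul, map_mul, map_inv]
  let C := centralizer ({F t} : Set G)
  let Z : C := ⟨F z, mk zt⟩
  let Z' : C := ⟨F z', mk z't⟩
  let U : C := ⟨F u, mk ut⟩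
  let W : C := ⟨F w, mk wt⟩
  let T : C := ⟨F t, mk rfl⟩
  let S : C := ⟨s, mem_centralizer_singleton_iff.2 h.st⟩
  have cT : ∀ x : C, x * T = T * x := fun x => Subtype.ext (mem_centralizer_singleton_iff.1 x.2)
  have πT : π T = 1 := (ker T).2 (.inr rfl)
  have ne : ∀ (x : P35) (m : F x ∈ C), x ≠ 1 → x ≠ t → π ⟨F x, m⟩ ≠ 1 := fun x m a b e =>
    ((ker _).1 e).elim (fun r => a (h.inj (by rw [map_one]; exact r))) fun r => b (h.inj r)
  have lf : ∀ x y : C, π x = π y → x = y ∨ x = y * T := fun x y e => by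
    rcases (ker (y⁻¹ * x)).1 (by rw [map_mul, map_inv, e, inv_mul_cancel]) with r | r
    · exact .inl (inv_mul_eq_one.1 (Subtype.ext r)).symm
    · exact .inr (inv_mul_eq_iff_eq_mul.1 (Subtype.ext r))
  have tu : IsConj (F t) (F u * F t) := isConj_iff.2 ⟨F v, by rw [cF g1, map_mul]⟩
  have uq : ∀ x y : C, IsConj U y → IsConj (F u) (x : G) → π x = π y → x = y := fun x y a b e => by
    refine (lf x y e).resolve_right fun r => ct.2.1 ?_
    obtain ⟨g, rfl⟩ := isConj_iff.1 a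
    refine (tu.trans (isConj_iff.2 ⟨g, ?_⟩)).trans b.symm
    rw [r, mul_assoc (g * U), cT g⁻¹, ← mul_assoc (g * U), mul_assoc g U T]
    rfl
  have up : ∀ {x : C}, IsConj U x → IsConj (F u) (x : G) := fun a => C.subtype.map_isConj a
  have KW : IsConj U W := isConj_iff.2 ⟨S, Subtype.ext (by show s * F u * s⁻¹ = F w; rw [h.si']; exact cb)⟩
  have pc : ∀ {x a b : C}, (x : G) * a * (x : G)⁻¹ = b → π x * π a * (π x)⁻¹ = π b := fun {x a b} e => by
    rw [← map_inv, ← map_mul, ← map_mul]; exact congrArg π (Subtype.ext e)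
  obtain ⟨c, k, k', g, p1, p2, p3, p4, p5, p6, p7, p8, p9, p10, p11⟩ := pr (r := π Z) (q := π Z') (a := π W) (b := π U)
    (by rw [← map_pow, show Z ^ 3 = 1 from Subtype.ext (by show F z ^ 3 = 1; rw [← map_pow, z3, map_one]), map_one])
    (ne _ _ z1 zt')
    (by rw [← map_pow, show Z' ^ 3 = 1 from Subtype.ext (by show F z' ^ 3 = 1; rw [← map_pow, z'3, map_one]), map_one])
    (ne _ _ z'1 z't') (pc (cF f1))
    (by rw [← map_mul, show W * W = 1 from Subtype.ext (by show F w * F w = 1; rw [← map_mul, f2, map_one]), map_one])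
    ((pc (x := W) (a := Z) (b := Z⁻¹) ((cF f3).trans (map_inv F z))).trans (map_inv π Z)) (pc (cF f4))
    (by rw [← map_mul, show U * U = 1 from Subtype.ext (by show F u * F u = 1; rw [← map_mul, f5, map_one]), map_one])
    (pc (cF f6)) ((pc (x := U) (a := Z') (b := Z'⁻¹) ((cF f7).trans (map_inv F z'))).trans (map_inv π Z'))
  obtain ⟨H, rfl⟩ := su k
  obtain ⟨H', rfl⟩ := su k'
  obtain ⟨Γ, rfl⟩ := su g
  have cj : ∀ (x : C) {y : C}, IsConj U y → IsConj U (x * y * x⁻¹) := fun x y a => a.trans (isConj_iff.2 ⟨x, rfl⟩)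
  have KX : IsConj U (H * W * H⁻¹) := cj H KW
  generalize hX : H * W * H⁻¹ = X at KX
  have πX : π X = c := by rw [← hX, map_mul, map_mul, map_inv, p1]
  have fx : ∀ (x : C) {y y' : C}, IsConj U y → IsConj U y' → π x * π y * (π x)⁻¹ = π y' → x * y * x⁻¹ = y' :=
    fun x y y' a b e => uq _ _ b (up (cj x a)) (by rw [map_mul, map_mul, map_inv, e])
  have e1 : H * U * H⁻¹ = U := fx H (IsConj.refl _) (IsConj.refl _) p2
  have e2 : H' * W * H'⁻¹ = W := fx H' KW KW p3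
  have e3 : H' * X * H'⁻¹ = U := fx H' KX (IsConj.refl _) (by rw [πX, p4])
  have e4 : W * X * W⁻¹ = X := fx W KX KX (by rw [πX, p5])
  have e5 : U * X * U⁻¹ = X := fx U KX KX (by rw [πX, p6])
  have v1 : ∀ {x y : C}, x = y → (x : G) = y := congrArg Subtype.val
  have E1 : (H : G) * F u * (H : G)⁻¹ = F u := v1 e1
  have EX : (H : G) * F w * (H : G)⁻¹ = X := v1 hX
  have ET : (H : G) * F t * (H : G)⁻¹ = F t := mul_inv_eq_iff_eq_mul.2 (v1 (cT H))
  have E4 : F w * X = X * F w := mul_inv_eq_iff_eq_mul.1 (v1 e4)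
  have E5 : F u * X = X * F u := mul_inv_eq_iff_eq_mul.1 (v1 e5)
  have km : F v * (H * F v * (H : G)⁻¹) ∈ C := mem_centralizer_singleton_iff.2 (mul_inv_eq_iff_eq_mul.1 (by
    calc F v * (H * F v * (H : G)⁻¹) * F t * (F v * (H * F v * (H : G)⁻¹))⁻¹
        = F v * (H * F v * (H : G)⁻¹ * (H * F t * (H : G)⁻¹) * (H * F v * (H : G)⁻¹)⁻¹) * (F v)⁻¹ := by rw [ET]; group
      _ = F v * (H * (F v * F t * (F v)⁻¹) * (H : G)⁻¹) * (F v)⁻¹ := by group
      _ = F v * (H * F u * (H : G)⁻¹ * (H * F t * (H : G)⁻¹)) * (F v)⁻¹ := by rw [cF g1, map_mul]; group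
      _ = F t := by rw [E1, ET, ← map_mul, cF g10]))
  have kx : F v * (H * F v * (H : G)⁻¹) * X * (F v * (H * F v * (H : G)⁻¹))⁻¹ = F v * X * (F v)⁻¹ := by
    calc _ = F v * (H * (F v * F w * (F v)⁻¹) * (H : G)⁻¹) * (F v)⁻¹ := by rw [← EX]; group
      _ = _ := by rw [cF g3, EX]
  let K : C := ⟨_, km⟩
  have kx' : ((K * X * K⁻¹ : C) : G) = F v * X * (F v)⁻¹ := kx
  have cm : ∀ (a : P35) (m : F a ∈ C), v * a * v⁻¹ = a → F a * X = X * F a →
      π K * c * (π K)⁻¹ * π ⟨F a, m⟩ = π ⟨F a, m⟩ * (π K * c * (π K)⁻¹) := fun a m e1 e2 => by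
    rw [← πX, ← map_inv, ← map_mul, ← map_mul, ← map_mul, ← map_mul]
    refine congrArg π (Subtype.ext ?_)
    show ((K * X * K⁻¹ : C) : G) * F a = F a * ((K * X * K⁻¹ : C) : G)
    rw [kx', ← cF e1, conj_mul, conj_mul, e2]
  have vx : F v * X * (F v)⁻¹ = X := by
    rw [← πX] at p11 cm
    rcases p11 (π K) (cm w _ g3 E4) (cm u _ g2 E5) with r | r | r
    · have := v1 (fx K KX KW r)
      rw [kx', show (W : G) = F w from rfl, ← cF g3, mul_left_inj, mul_right_inj] at this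
      exact (p7 (πX ▸ congrArg π (Subtype.ext this))).elim
    · have := v1 (fx K KX (IsConj.refl _) r)
      rw [kx', show (U : G) = F u from rfl, ← cF g2, mul_left_inj, mul_right_inj] at this
      exact (p8 (πX ▸ congrArg π (Subtype.ext this))).elim
    · exact kx'.symm.trans (v1 (fx K KX KX r))
  have i1 : IsConj (F t) (F (w * u * t)) := by
    refine (tu.trans (isConj_iff.2 ⟨s, ?_⟩)).trans (isConj_iff.2 ⟨F v, cF g4⟩).symm
    rw [h.si', h.sm, cb, h.st', map_mul]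
  have i2 : IsConj (F (w * u * t)) ((W * X * T : C) : G) := by
    refine (isConj_iff.2 ⟨(H' : G), ?_⟩).symm
    have : H' * (W * X * T) * H'⁻¹ = W * U * T := by
      calc H' * (W * X * T) * H'⁻¹ = H' * W * H'⁻¹ * (H' * X * H'⁻¹) * (H' * T) * H'⁻¹ := by group
        _ = _ := by rw [e2, e3, cT H']; group
    rw [map_mul, map_mul]
    exact v1 this
  have i3 : IsConj ((W * X * T : C) : G) ((W * U * X * T : C) : G) := by
    refine (isConj_iff.2 ⟨F v, ?_⟩).symm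
    show F v * (F w * F u * X * F t) * (F v)⁻¹ = F w * X * F t
    rw [← conj_mul, ← conj_mul, ← conj_mul, cF g3, cF g2, vx, cF g1, mul_assoc (F w), E5, mul_assoc, mul_assoc, ← map_mul, g9,
      mul_assoc]
  have πR : π (Γ * (W * U * X * T) * Γ⁻¹) = π Γ * (π W * π U * c) * (π Γ)⁻¹ := by
    simp only [map_mul, map_inv, πT, πX, mul_one]
  have i4 : IsConj (F t) ((Γ * (W * U * X * T) * Γ⁻¹ : C) : G) :=
    ((i1.trans i2).trans i3).trans (isConj_iff.2 ⟨(Γ : G), rfl⟩)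
  generalize Γ * (W * U * X * T) * Γ⁻¹ = R at πR i4
  have y3 : R * (Z * Z') * R⁻¹ = Z * Z' := by
    refine (lf _ _ (by rw [map_mul, map_mul, map_inv, πR, map_mul, p10, mul_inv_cancel_right])).resolve_right fun r => g8 (h.inj ?_)
    have := congrArg (fun x : C => (x : G) ^ 3) r
    change ((R : G) * (F z * F z') * (R : G)⁻¹) ^ 3 = (F z * F z' * F t) ^ 3 at this
    rw [conj_pow, ← map_mul, ← map_mul, ← map_pow, ← map_pow, g6, g7, map_one, mul_one, mul_inv_cancel] at this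
    rw [← this, map_one]
  have := ct.1 R i4 (by rw [map_mul]; exact mul_inv_eq_iff_eq_mul.1 (v1 y3))
  rw [show R = T from Subtype.ext this, πT, eq_comm, conj_eq_one_iff] at πR
  exact p9 πR

end Cfsg.Agent.H26.Dm
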