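import Mathlib
import Cfsg.Prelude.Def_Sporadic_a

/-!
A Steiner system from a labelling of pairs of a 24-set by elements of an elementary abelian group.
-/

set_option autoImplicit false

namespace Cfsg.Agent.H26.Fz
open Finset

variable {Ω A : Type*} [Fintype Ω] [DecidableEq Ω] [CommGroup A]

omit [Fintype Ω] in
theorem prod_sd (v : Ω → A) (sq : ∀ x : A, x * x = 1) (S T : Finset Ω) :
    ∏ i ∈ symmDiff S T, v i = (∏ i ∈ S, v i) * ∏ i ∈ T, v i := by
  rw [← prod_sdiff (inter_subset_left : S ∩ T ⊆ S), ← prod_sdiff (inter_subset_right : S ∩ T ⊆ T), symmDiff_def, sup_eq_union,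
    prod_union disjoint_sdiff_sdiff, sdiff_inter_self_left, sdiff_inter_self_right, mul_mul_mul_comm, sq, mul_one]

omit [Fintype Ω] in
theorem card_sd (S T : Finset Ω) : (symmDiff S T).card + 2 * (S ∩ T).card = S.card + T.card := by
  have a := card_sdiff_add_card_inter S T
  have b := card_sdiff_add_card_inter T S
  rw [inter_comm T] at b
  rw [symmDiff_def, sup_eq_union, card_union_of_disjoint disjoint_sdiff_sdiff]
  omega

theorem steiner [Fintype A] (v : Ω → A) (sq : ∀ x : A, x * x = 1) (D : Set A) (cΩ : Fintype.card Ω = 24)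
    (cA : Fintype.card A = 2048) (cD : D.ncard = 276) (h1 : (1 : A) ∉ D)
    (h2 : ∀ S : Finset Ω, S.card = 2 → ∏ i ∈ S, v i ∈ D)
    (h4 : ∀ S : Finset Ω, S.card = 4 → ∏ i ∈ S, v i ∉ D ∧ ∏ i ∈ S, v i ≠ 1) :
    Cfsg.IsSteinerSystem 5 8 {S : Finset Ω | S.card = 8 ∧ ∏ i ∈ S, v i = 1} := by
  classical
  have mw : ∀ S T : Finset Ω, S.card = T.card → ∏ i ∈ S, v i = ∏ i ∈ T, v i → S.card ≤ (S ∩ T).card + 3 → S = T := by
    intro S T c e l
    have p : ∏ i ∈ symmDiff S T, v i = 1 := by rw [prod_sd v sq, e, sq]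
    have k := card_sd S T
    have i := card_le_card (inter_subset_left : S ∩ T ⊆ S)
    have : (symmDiff S T).card = 0 ∨ (symmDiff S T).card = 2 ∨ (symmDiff S T).card = 4 ∨ (symmDiff S T).card = 6 := by omega
    rcases this with r | r | r | r
    · exact symmDiff_eq_bot.1 (card_eq_zero.1 r)
    · exact (h1 (p ▸ h2 _ r)).elim
    · exact ((h4 _ r).2 p).elim
    · obtain ⟨U, hU, cU⟩ := exists_subset_card_eq (s := symmDiff S T) (n := 2) (by omega)
      have a := h2 U cU
      have b := (h4 (symmDiff S T \ U) (by rw [card_sdiff_of_subset hU]; omega)).1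
      rw [← prod_sdiff hU] at p
      rw [eq_inv_of_mul_eq_one_left p, inv_eq_of_mul_eq_one_right (sq _)] at b
      exact (b a).elim
  have dj : ∀ S T : Finset Ω, S.card = 4 → T.card = 4 → ∏ i ∈ S, v i = ∏ i ∈ T, v i → S ≠ T → Disjoint S T := by
    intro S T a b e n
    rw [disjoint_iff_inter_eq_empty, ← card_eq_zero]
    by_contra r
    exact n (mw S T (a.trans b.symm) e (by omega))
  have fb : ∀ (y : A) (U : Finset Ω), (∀ S : Finset Ω, S.card = 4 → ∏ i ∈ S, v i = y → S ⊆ U) →
      4 * ((powersetCard 4 (univ : Finset Ω)).filter fun S => ∏ i ∈ S, v i = y).card ≤ U.card := by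
    intro y U hU
    have m : ∀ S ∈ (powersetCard 4 (univ : Finset Ω)).filter fun S => ∏ i ∈ S, v i = y, S.card = 4 ∧ ∏ i ∈ S, v i = y :=
      fun S hS => ⟨(mem_powersetCard.1 (mem_filter.1 hS).1).2, (mem_filter.1 hS).2⟩
    generalize ((powersetCard 4 (univ : Finset Ω)).filter fun S => ∏ i ∈ S, v i = y) = F at m
    have := card_biUnion (s := F) (t := id) fun S a T b n => dj S T (m S a).1 (m T b).1 ((m S a).2.trans (m T b).2.symm) n
    rw [sum_congr rfl (f := fun u => (id u).card) (g := fun _ => 4) fun S a => (m S a).1, sum_const, smul_eq_mul] at this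
    rw [mul_comm, ← this]
    exact card_le_card (biUnion_subset.2 fun S a => hU S (m S a).1 (m S a).2)
  have ex : ∀ T : Finset Ω, T.card = 4 → ∀ x : Ω, ∃ S : Finset Ω, S.card = 4 ∧ ∏ i ∈ S, v i = ∏ i ∈ T, v i ∧ x ∈ S := by
    intro T cT x
    by_contra! hx
    let Z : Finset A := (univ \ D.toFinset).erase 1
    have cZ : Z.card = 1771 := by
      rw [card_erase_of_mem (by simpa using h1), card_sdiff_of_subset (subset_univ _), card_univ, cA, ← Set.ncard_eq_toFinset_card', cD]
    have mZ : ∀ S : Finset Ω, S.card = 4 → ∏ i ∈ S, v i ∈ Z := fun S c => by simpa [Z] using (h4 S c).symm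
    have e := card_eq_sum_card_fiberwise (s := powersetCard 4 (univ : Finset Ω)) (t := Z) (f := fun S => ∏ i ∈ S, v i)
      fun S hS => mZ S (mem_powersetCard.1 hS).2
    have l := sum_lt_sum (s := Z) (g := fun _ => 6)
      (f := fun y => ((powersetCard 4 (univ : Finset Ω)).filter fun S => ∏ i ∈ S, v i = y).card)
      (fun y _ => by have := fb y univ fun S _ _ => subset_univ S; rw [card_univ, cΩ] at this; omega)
      ⟨_, mZ T cT, by
        have := fb _ (univ.erase x) fun S a b => subset_erase.2 ⟨subset_univ S, hx S a b⟩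
        rw [card_erase_of_mem (mem_univ x), card_univ, cΩ] at this; omega⟩
    rw [← e, sum_const, cZ, card_powersetCard, card_univ, cΩ] at l
    revert l
    decide
  refine ⟨fun b hb => hb.1, fun s cs => ?_⟩
  obtain ⟨x, hx⟩ := card_pos.1 (show 0 < s.card by omega)
  have cT : (s.erase x).card = 4 := by rw [card_erase_of_mem hx, cs]
  obtain ⟨S, a, b, c⟩ := ex _ cT x
  have d := dj S _ a cT b fun r => by simp [r] at c
  refine ⟨S ∪ s.erase x, ⟨⟨by rw [card_union_of_disjoint d, a, cT], by rw [prod_union d, b, sq]⟩, fun y hy => ?_⟩, ?_⟩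
  · by_cases r : y = x
    · exact mem_union_left _ (r ▸ c)
    · exact mem_union_right _ (mem_erase.2 ⟨r, hy⟩)
  · rintro T ⟨⟨t1, t2⟩, t3⟩
    refine mw _ _ (by rw [card_union_of_disjoint d, a, cT, t1]) (by rw [prod_union d, b, sq, t2]) ?_
    have : s ⊆ T ∩ (S ∪ s.erase x) := subset_inter t3 fun y hy => by
      by_cases r : y = x
      · exact mem_union_left _ (r ▸ c)
      · exact mem_union_right _ (mem_erase.2 ⟨r, hy⟩)
    have := card_le_card this
    omega

end Cfsg.Agent.H26.Fz
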