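import Mathlib

/-!
Part F of the local analysis of the twisted group of type `E₆` over the field with four elements.
-/

set_option autoImplicit false

namespace Cfsg.Agent.H26.Lp
open Subgroup

universe u

theorem partF : ∀ (R X : Type u) [Group R] [Group X] [IsSimpleGroup X] (π : R →* X), Function.Surjective π →
  (∀ z, π z = 1 → z ∈ center R ∧ z ^ 3 = 1) → ∀ (P Y : Subgroup R) (p : ℕ), p.Coprime 3 → (∀ x ∈ P, x ^ p = 1) → P ≠ ⊥ → P ≤ Y →
    normalizer (P : Set R) ≤ normalizer (Y : Set R) → Y.map π ≠ ⊤ → ¬ Y ≤ normalizer (P : Set R) →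
      ¬ IsCoatom (normalizer ((P.map π : Subgroup X) : Set X)) := by
  intro R X _ _ _ π su hk P Y p cp hp P1 PY hN hY hYP hc
  have one : ∀ z : R, z ^ p = 1 → z ^ 3 = 1 → z = 1 := fun z a b => orderOf_eq_one_iff.1
    (Nat.eq_one_of_dvd_coprimes cp (orderOf_dvd_of_pow_eq_one a) (orderOf_dvd_of_pow_eq_one b))
  have mem : ∀ y : R, y ^ p = 1 → π y ∈ P.map π → y ∈ P := by
    rintro y hy ⟨x, hx, e⟩
    obtain ⟨c, c3⟩ := hk (x⁻¹ * y) (by rw [map_mul, map_inv, e, inv_mul_cancel])
    have cm : Commute x (x⁻¹ * y) := mem_center_iff.1 c x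
    have : (x⁻¹ * y) ^ p = 1 := by
      have := cm.mul_pow p
      rwa [mul_inv_cancel_left, hy, hp x hx, one_mul, eq_comm] at this
    rw [← inv_mul_eq_one.1 (one _ this c3)]
    exact hx
  have lift : ∀ g : R, π g ∈ normalizer ((P.map π : Subgroup X) : Set X) → g ∈ normalizer (P : Set R) := by
    intro g hg x
    constructor
    · intro hx
      refine mem _ (by rw [conj_pow, hp x hx, mul_one, mul_inv_cancel]) ?_
      rw [map_mul, map_mul, map_inv]
      exact (hg _).1 ⟨x, hx, rfl⟩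
    · intro hx
      refine mem _ ?_ ((hg _).2 ⟨_, hx, by rw [map_mul, map_mul, map_inv]⟩)
      have := hp _ hx
      rwa [conj_pow, conj_eq_one_iff] at this
  have le : normalizer ((P.map π : Subgroup X) : Set X) ≤ normalizer ((Y.map π : Subgroup X) : Set X) := by
    intro g hg
    obtain ⟨g, rfl⟩ := su g
    exact le_normalizer_map π ⟨g, hN (lift g hg), rfl⟩
  have lt : normalizer ((P.map π : Subgroup X) : Set X) < normalizer ((Y.map π : Subgroup X) : Set X) :=
    lt_of_le_of_ne le fun e => hYP fun y hy => lift y (e ▸ le_normalizer ⟨y, hy, rfl⟩)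
  rcases IsSimpleGroup.eq_bot_or_eq_top_of_normal _ (normalizer_eq_top_iff.1 (hc.2 _ lt)) with h | h
  · refine P1 (eq_bot_iff.2 fun x hx => one x (hp x hx) (hk x ?_).2)
    have : π x ∈ Y.map π := ⟨x, PY hx, rfl⟩
    rwa [h, mem_bot] at this
  · exact hY h

end Cfsg.Agent.H26.Lp
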