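import Mathlib
import Cfsg.Prelude.Def_LocalStructure
import Cfsg.Prelude.Def_LocalEven
import Cfsg.Agent.H26.SPE
import Cfsg.Agent.H22.FStar
import Cfsg.Agent.H02.FPF

/-!
# Characteristic `p` of local subgroups

`fstar_iff`, `isCharP_normalizer_of_centralizer`, `isCharP_normalizer_iff`, `isCharP_normalizer_of_mem_center`,
`IsCharP.normalizer_of_le`, `ParC` (`parC_iff`, `parC_top_iff`, `ParC.centralizer`, `parC_of_centralizer`), `LocC` (`locC_top_iff`,
`locC_of_centralizer`, `LocC.centralizer`), `centralizer_singleton_eq`, `conj_eq_inv_of_fpf`.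
-/

namespace H26
open Cfsg

variable {G : Type*} [Group G] {p : ℕ}

theorem centralizer_singleton_eq (z : G) :
    Subgroup.centralizer ({z} : Set G) = Subgroup.centralizer (Subgroup.zpowers z : Set G) :=
  (centralizer_zpowers z).symm

/-- An involution acting without fixed points inverts. -/
theorem conj_eq_inv_of_fpf {K : Subgroup G} [Finite K] {z : G} (hz : z * z = 1)
    (hn : z ∈ Subgroup.normalizer (K : Set G)) (h : K ⊓ Subgroup.centralizer {z} = ⊥) {k : G} (hk : k ∈ K) :
    z * k * z⁻¹ = k⁻¹ := by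
  obtain ⟨y, -, rfl⟩ := H02.fpf_surj (MulAut.conj z).toMonoidHom K
    (fun n hn' => (Subgroup.mem_normalizer_iff.mp hn n).mp hn') (fun n hn' h1 => Subgroup.mem_bot.mp
      (h ▸ Subgroup.mem_inf.mpr ⟨hn', Subgroup.mem_centralizer_singleton_iff.mpr
        (mul_inv_eq_iff_eq_mul.mp h1).symm⟩)) hk
  have h1 : z⁻¹ = z := inv_eq_of_mul_eq_one_right hz
  simp only [MulEquiv.toMonoidHom_eq_coe, MonoidHom.coe_coe, MulAut.conj_apply, mul_inv_rev, inv_inv, h1]
  calc _ = (z * z) * y⁻¹ * (z * y * z) := by group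
    _ = _ := by rw [hz]; group

variable [hp : Fact p.Prime]

theorem fstar_iff {H : Subgroup G} [Finite H] : generalizedFittingSubgroup H = pCore p H ↔ IsCharP p H :=
  H22.fstar_eq_pCore_iff.trans isCharP_iff

omit hp in
theorem le_normalizer_inf_centralizer (H X : Subgroup G) : H ⊓ Subgroup.normalizer (X : Set G) ≤
    Subgroup.normalizer ((H ⊓ Subgroup.centralizer (X : Set G) : Subgroup G) : Set G) :=
  le_normalizer_inf (inf_le_left.trans Subgroup.le_normalizer) (le_normalizer_centralizer inf_le_right)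

theorem isCharP_normalizer_of_centralizer {H X : Subgroup G} [Finite H] (hX : IsPGroup p X) (h1 : X ≤ H)
    (h : IsCharP p (H ⊓ Subgroup.centralizer (X : Set G))) :
    IsCharP p (H ⊓ Subgroup.normalizer (X : Set G)) := by
  have := finite_of_le (inf_le_left : H ⊓ Subgroup.normalizer (X : Set G) ≤ H)
  refine isCharP_of_coprime fun x hx hc h2 => h.eq_one ⟨hx.1, centralizer_anti
    (le_pCoreOf (le_inf h1 Subgroup.le_normalizer) inf_le_right hX) h2⟩ hc (centralizer_anti ?_ h2)
  exact pCoreOf_le_of_normal (inf_le_inf_left _ (centralizer_le_normalizer X))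
    (le_normalizer_inf_centralizer H X)

theorem isCharP_normalizer_iff {H X : Subgroup G} [Finite H] (hX : IsPGroup p X) (h1 : X ≤ H) :
    IsCharP p (H ⊓ Subgroup.normalizer (X : Set G)) ↔ IsCharP p (H ⊓ Subgroup.centralizer (X : Set G)) := by
  have := finite_of_le (inf_le_left : H ⊓ Subgroup.centralizer (X : Set G) ≤ H)
  exact ⟨fun h => h.of_normal (inf_le_inf_left _ (centralizer_le_normalizer X))
    (le_normalizer_inf_centralizer H X), isCharP_normalizer_of_centralizer hX h1⟩

/-- if `X ≤ L ≤ H`, `C_H(X) ≤ L` and `L` has characteristic `p` then so has `N_H(X)` -/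
theorem IsCharP.normalizer_of_le {H L X : Subgroup G} [Finite H] (h : IsCharP p L) (hL : L ≤ H)
    (hX : IsPGroup p X) (h1 : X ≤ L) (h2 : H ⊓ Subgroup.centralizer (X : Set G) ≤ L) :
    IsCharP p (H ⊓ Subgroup.normalizer (X : Set G)) := by
  have := finite_of_le hL
  refine isCharP_normalizer_of_centralizer hX (h1.trans hL) ?_
  rw [le_antisymm (le_inf h2 inf_le_right) (inf_le_inf_right _ hL)]
  exact h.inf_centralizer hX h1

theorem isCharP_normalizer_of_mem_center {H X : Subgroup G} [Finite H] (hX : IsPGroup p X) (h1 : X ≤ H)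
    {z : G} (hz : z ∈ X) (h2 : z ∈ Subgroup.centralizer (X : Set G))
    (h : IsCharP p (H ⊓ Subgroup.centralizer {z})) : IsCharP p (H ⊓ Subgroup.normalizer (X : Set G)) :=
  h.normalizer_of_le inf_le_left hX (le_inf h1 (mem_centralizer_iff_le.mp h2))
    (inf_le_inf_left _ (Subgroup.centralizer_le (Set.singleton_subset_iff.mpr hz)))

/-- parabolic characteristic `p` -/
def ParC (p : ℕ) (H : Subgroup G) : Prop :=
  ∀ R T, IsSyl p T H → R ≤ T → R ≠ ⊥ → T ≤ Subgroup.normalizer (R : Set G) →
    IsCharP p (H ⊓ Subgroup.normalizer (R : Set G))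

omit hp in
theorem parC_top_iff : IsOfParabolicCharacteristic p G ↔ ParC p (⊤ : Subgroup G) := by
  constructor
  · intro h R T a b c d
    obtain ⟨T, rfl⟩ := a.exists_sylow_top
    rw [top_inf_eq]
    exact isCharP_iff.mp (h R (T.isPGroup'.to_le b) c ⟨T, d⟩)
  · rintro h R a b ⟨T, c⟩
    have := h R T (isSyl_top T) ((isSyl_top T).le_of_le_normalizer a le_top c) b c
    rw [top_inf_eq] at this
    exact isCharP_iff.mpr this

omit hp in
theorem parC_iff {H : Subgroup G} : IsOfParabolicCharacteristic p H ↔ ParC p H := by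
  rw [parC_top_iff]
  constructor
  · intro h R T a b c d
    obtain ⟨T, -, rfl⟩ := a.exists_sylow
    obtain ⟨R, rfl⟩ : ∃ R' : Subgroup H, R'.map H.subtype = R :=
      ⟨_, Subgroup.map_subgroupOf_eq_of_le (b.trans (Subgroup.map_subtype_le _))⟩
    have := (h R T (isSyl_top T) (Subgroup.map_subtype_le_map_subtype.mp b) (fun e => c (by
      rw [e, Subgroup.map_bot])) (Subgroup.map_subtype_le_map_subtype.mp (by
        rw [map_subtype_normalizer]; exact le_inf (Subgroup.map_subtype_le _) d))).map_inj H.subtype_injective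
    rwa [top_inf_eq, map_subtype_normalizer] at this
  · intro h R T a b c d
    obtain ⟨T, rfl⟩ := a.exists_sylow_top
    have := h _ _ (isSyl_map_subtype T) (Subgroup.map_mono b)
      (by rwa [Ne, Subgroup.map_eq_bot_iff_of_injective _ H.subtype_injective]) (le_normalizer_map _ d)
    rwa [← map_subtype_normalizer, ← isCharP_subgroupOf_iff (Subgroup.map_subtype_le _),
      map_subtype_subgroupOf, ← top_inf_eq (Subgroup.normalizer _)] at this

theorem ParC.centralizer {H T : Subgroup G} [Finite H] (h : ParC p H) (hT : IsSyl p T H) {z : G} (hz : z ∈ T)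
    (h1 : z ∈ Subgroup.centralizer (T : Set G)) (h2 : z ≠ 1) :
    IsCharP p (H ⊓ Subgroup.centralizer {z}) := by
  have h3 := Subgroup.zpowers_le.mpr hz
  rw [centralizer_singleton_eq, ← isCharP_normalizer_iff (hT.pg.to_le h3) (h3.trans hT.le)]
  exact h _ T hT h3 (by rwa [Ne, Subgroup.zpowers_eq_bot])
    ((Subgroup.le_centralizer_iff.mp (Subgroup.zpowers_le.mpr h1)).trans (centralizer_le_normalizer _))

theorem parC_of_centralizer {H T : Subgroup G} [Finite H] (hT : IsSyl p T H)
    (h : ∀ z ∈ T, z ∈ Subgroup.centralizer (T : Set G) → orderOf z = p →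
      IsCharP p (H ⊓ Subgroup.centralizer {z})) : ParC p H := by
  intro R T' a b c d
  have := finite_of_le (b.trans a.le)
  obtain ⟨z, hz, oz⟩ := exists_mem_orderOf_eq_of_ne_bot (a.pg.to_le b).to_inf_left
    (inf_centralizer_ne_bot a.pg (a.pg.to_le b) c d)
  refine isCharP_normalizer_of_mem_center (a.pg.to_le b) (b.trans a.le) hz.1 (centralizer_anti b hz.2) ?_
  obtain ⟨g, hg, rfl⟩ := a.exists_cj_eq hT
  have := (h _ (conj_mem_cj (b hz.1)) (by rw [← cj_centralizer]; exact conj_mem_cj hz.2)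
    (by rwa [orderOf_conj])).cj g⁻¹
  rwa [← cj_centralizer_singleton, cj_inf, cj_inv_cj, cj_eq_self_of_mem (inv_mem hg)] at this

/-- local characteristic `p` -/
def LocC (p : ℕ) (H : Subgroup G) : Prop :=
  ∀ R ≤ H, IsPGroup p R → R ≠ ⊥ → IsCharP p (H ⊓ Subgroup.normalizer (R : Set G))

omit hp in
theorem locC_top_iff : IsOfLocalCharacteristic p G ↔ p ∣ Nat.card G ∧ LocC p (⊤ : Subgroup G) := by
  simp only [IsOfLocalCharacteristic, LocC, isCharP_iff, top_inf_eq, le_top, true_imp_iff]

omit hp in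
theorem LocC.parC {H : Subgroup G} (h : LocC p H) : ParC p H :=
  fun R _ a b c _ => h R (b.trans a.le) (a.pg.to_le b) c

theorem LocC.centralizer {H R : Subgroup G} [Finite H] (h : LocC p H) (h1 : R ≤ H) (hR : IsPGroup p R)
    (h2 : R ≠ ⊥) : IsCharP p (H ⊓ Subgroup.centralizer (R : Set G)) :=
  (isCharP_normalizer_iff hR h1).mp (h R h1 hR h2)

theorem locC_of_centralizer {H T : Subgroup G} [Finite H] (hT : IsSyl p T H)
    (h : ∀ z ∈ T, orderOf z = p → IsCharP p (H ⊓ Subgroup.centralizer {z})) : LocC p H := by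
  intro R a b c
  have := finite_of_le a
  obtain ⟨z, hz, oz⟩ := exists_mem_orderOf_eq_of_ne_bot b.to_inf_left (center_ne_bot b c)
  refine isCharP_normalizer_of_mem_center b a hz.1 hz.2 ?_
  obtain ⟨g, hg, h1⟩ := hT.exists_cj_le b a
  have := (h _ (h1 (conj_mem_cj hz.1)) (by rwa [orderOf_conj])).cj g⁻¹
  rwa [← cj_centralizer_singleton, cj_inf, cj_inv_cj, cj_eq_self_of_mem (inv_mem hg)] at this

end H26
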